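import Cfsg.Agent.Lib.Suzuki.Recognition.Model
import Cfsg.Agent.Lib.SuzukiTwo.TypeA
import Cfsg.Agent.Lib.SuzukiTwo.OfSuzuki
import Cfsg.Agent.Lib.Zass29.SuzukiClassify

/-!
# Simple Zassenhaus groups with non-abelian translations of 2-power order are Suzuki groups
-/

set_option autoImplicit false

namespace CfsgLib.Suzuki.Recognition

open CfsgLib.SuzukiTwo in
/-- equivariant coordinates of a group of type A -/
theorem exists_equivariant {P : Type*} [Group P] [Finite P] {K : Type*} [CommGroup K] [Finite K]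
    [MulDistribMulAction K P] (h : SuzukiTwo.Setting P K) (hna : ∃ x y : P, x * y ≠ y * x)
    (hcard : Nat.card P = Nat.card (invols P) ^ 2) :
    ∃ (F : Type) (_ : Field F) (_ : Finite F) (_ : CharP F 2) (φ : F ≃+* F) (u : F → F → P)
      (c : K ≃* Fˣ), φ ≠ RingEquiv.refl F ∧
      (∀ x y x' y', u x y * u x' y' = u (x + x') (y + y' + x * φ x')) ∧
      (∀ g, ∃ x y, u x y = g) ∧ (∀ x y x' y', u x y = u x' y' → x = x' ∧ y = y') ∧
      ∀ (k : K) (x y : F), k • u x y = u (c k * x) (c k * φ (c k) * y) := by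
  classical
  obtain ⟨F, hF, hfF, φ, p, j, ψ, hcF, hφ1, -, h2, hp, hps, hja, hji, hjc, hjk, hsq, hpk, hψ⟩ :=
    h.exists_coord_sq hna hcard
  have hchar : CharP F 2 := CharTwo.of_one_ne_zero_of_two_eq_zero one_ne_zero
    (by rw [← one_add_one_eq_two]; exact h2 1)
  have hp1 : p 1 = 0 := by
    have := hp 1 1
    rw [one_mul] at this
    exact left_eq_add.1 this
  have hj0 : j 0 = 1 := by
    have := hja 0 0
    rw [add_zero] at this
    exact left_eq_mul.1 this
  have hpj : ∀ a, p (j a) = 0 := fun a => (hjk _).2 ⟨a, rfl⟩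
  -- the coordinates of the group of type A
  obtain ⟨mk, hmk, -, hmks, hmki⟩ := exists_typeA_coord h2 (φ : F →+* F)
  choose r ry hr using hmks
  have hrmk : ∀ x y, r (mk x y) = x ∧ ry (mk x y) = y := fun x y => hmki _ _ _ _ (hr (mk x y))
  obtain ⟨f, hfr, hfj⟩ := exists_mulEquiv_of_sq p j r (fun w => mk 0 w) hp
    (fun a b => by conv_lhs => rw [← hr a, ← hr b, hmk, (hrmk _ _).1])
    hps (fun a => ⟨mk a 0, (hrmk a 0).1⟩) hja
    (fun a b => by show mk 0 (a + b) = mk 0 a * mk 0 b; rw [hmk]; simp)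
    hji (fun a b hab => (hmki _ _ _ _ hab).2) hjc
    (fun a x => by rw [← hr x, hmk, hmk]; simp [add_comm]) hjk
    (fun x => ⟨fun h0 => ⟨ry x, by rw [← h0]; exact hr x⟩,
      fun ⟨a, ha⟩ => by rw [← ha]; exact (hrmk 0 a).1⟩)
    (fun a => φ a * a) hsq
    (fun x => by
      conv_lhs => rw [← hr x, hmk, h2, h2, zero_add]
      rfl)
  let S : P → F := fun x => ry (f x)
  have hSmul : ∀ x y, S (x * y) = S x + S y + φ (p x) * p y := fun x y => by
    show ry (f (x * y)) = _
    conv_lhs => rw [map_mul, ← hr (f x), ← hr (f y), hmk, (hrmk _ _).2]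
    rw [hfr, hfr]
    rfl
  have hSj : ∀ a, S (j a) = a := fun a => by show ry (f (j a)) = a; rw [hfj, (hrmk _ _).2]
  -- the parameters
  have hψ1 : ψ 1 = 1 := by
    obtain ⟨x, hx⟩ := hps 1
    have := hpk 1 x
    rw [one_smul, hx, mul_one] at this
    exact this.symm
  have hψm : ∀ k m, ψ (k * m) = ψ k * ψ m := fun k m => by
    obtain ⟨x, hx⟩ := hps 1
    have := hpk (k * m) x
    rw [mul_smul, hpk, hpk, hx, mul_one, mul_one] at this
    exact this.symm
  have hψ0 : ∀ k, ψ k ≠ 0 := fun k e => one_ne_zero (α := F) (by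
    rw [← hψ1, ← mul_inv_cancel k, hψm, e, zero_mul])
  let cF : K →* Fˣ :=
    { toFun := fun k => Units.mk0 (ψ k) (hψ0 k)
      map_one' := Units.ext hψ1
      map_mul' := fun k m => Units.ext (hψm k m) }
  have hcsurj : Function.Surjective cF := fun l => by
    obtain ⟨k, hk⟩ := hψ l l.ne_zero
    exact ⟨k, Units.ext hk⟩
  have hKcard : Nat.card K = Nat.card Fˣ := by
    rw [Nat.card_units, Nat.card_eq_fintype_card (α := F), hcF, h.card_invols, Nat.add_sub_cancel]
  let c : K ≃* Fˣ := MulEquiv.ofBijective cF ((Nat.bijective_iff_surjective_and_card _).2 ⟨hcsurj, hKcard⟩)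
  let N : K → F := fun k => φ (ψ k) * ψ k
  have hN0 : ∀ k, N k ≠ 0 := fun k =>
    mul_ne_zero ((EmbeddingLike.map_ne_zero_iff (f := φ)).2 (hψ0 k)) (hψ0 k)
  have hNm : ∀ k m, N (k * m) = N k * N m := fun k m => by
    show φ (ψ (k * m)) * ψ (k * m) = _
    rw [hψm, map_mul]; ring
  have hQk : ∀ k b, k • j (φ b * b) = j (N k * (φ b * b)) := fun k b => by
    obtain ⟨x, rfl⟩ := hps b
    rw [← hsq, smul_mul', hsq, hpk, map_mul]
    congr 1
    show _ = φ (ψ k) * ψ k * _
    ring
  -- every element of the kernel is a square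
  have hQsurj : ∀ a, ∃ b, φ b * b = a := fun a => by
    by_cases ha : a = 0
    · exact ⟨0, by rw [ha, mul_zero]⟩
    have hi : ∀ a, a ≠ 0 → j a ≠ 1 ∧ j a * j a = 1 := fun a ha =>
      ⟨fun e => ha (hji (e.trans hj0.symm)), by rw [← hja, h2, hj0]⟩
    obtain ⟨k, hk, -⟩ := h.reg (j 1) (j a) (hi 1 one_ne_zero).1 (hi 1 one_ne_zero).2 (hi a ha).1 (hi a ha).2
    have e := hQk k 1
    rw [map_one, one_mul, mul_one] at e
    exact ⟨ψ k, hji (e.symm.trans hk)⟩
  have hkj : ∀ k a, k • j a = j (N k * a) := fun k a => by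
    obtain ⟨b, rfl⟩ := hQsurj a
    exact hQk k b
  -- the average
  haveI := Fintype.ofFinite K
  have hKodd : (Fintype.card K : F) = 1 := by
    have e : Fintype.card K + 1 = Fintype.card F := by
      rw [hcF, h.card_invols, Nat.card_eq_fintype_card]
    have e' : (Fintype.card K : F) + 1 = 0 := by
      rw [← Nat.cast_one, ← Nat.cast_add, e, Nat.cast_card_eq_zero]
    rw [eq_neg_of_add_eq_zero_left e', neg_eq_of_add_eq_zero_right (h2 1)]
  let S' : P → F := fun x => ∑ k : K, S (k • x) / N k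
  have hS'mul : ∀ x y, S' (x * y) = S' x + S' y + φ (p x) * p y := fun x y => by
    have e : ∀ k : K, S (k • (x * y)) / N k = S (k • x) / N k + S (k • y) / N k + φ (p x) * p y := fun k => by
      have e1 : φ (p (k • x)) * p (k • y) = N k * (φ (p x) * p y) := by
        rw [hpk, hpk, map_mul]
        show _ = φ (ψ k) * ψ k * _
        ring
      rw [smul_mul', hSmul, e1, add_div, add_div, mul_div_cancel_left₀ _ (hN0 k)]
    show ∑ k : K, _ = _
    rw [Finset.sum_congr rfl fun k _ => e k, Finset.sum_add_distrib, Finset.sum_add_distrib,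
      Finset.sum_const, Finset.card_univ, nsmul_eq_mul, hKodd, one_mul]
  have hS'j : ∀ a, S' (j a) = a := fun a => by
    show ∑ k : K, _ = _
    rw [Finset.sum_congr rfl fun k _ => show S (k • j a) / N k = a by
      rw [hkj, hSj, mul_div_cancel_left₀ _ (hN0 k)], Finset.sum_const, Finset.card_univ, nsmul_eq_mul,
      hKodd, one_mul]
  have hS'k : ∀ m x, S' (m • x) = N m * S' x := fun m x => by
    show ∑ k : K, _ = N m * ∑ k : K, _
    rw [Finset.mul_sum, ← Equiv.sum_comp (Equiv.mulRight m) (fun k => N m * (S (k • x) / N k))]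
    refine Finset.sum_congr rfl fun k _ => ?_
    show _ = N m * (S ((k * m) • x) / N (k * m))
    have := hN0 k
    have := hN0 m
    rw [← mul_smul, hNm]
    field_simp
  -- the new coordinates
  have hbij : Function.Bijective fun x : P => (p x, φ.symm (S' x)) := by
    constructor
    · intro x y e
      obtain ⟨e1, e2⟩ := Prod.ext_iff.1 e
      simp only [EmbeddingLike.apply_eq_iff_eq] at e1 e2
      obtain ⟨a, ha⟩ := (hjk (x⁻¹ * y)).1 (by
        have e3 := hp x (x⁻¹ * y)
        rw [mul_inv_cancel_left, ← e1] at e3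
        exact left_eq_add.1 e3)
      have e4 : y = x * j a := by rw [ha, mul_inv_cancel_left]
      rw [e4, hS'mul, hS'j, hpj, mul_zero, add_zero] at e2
      rw [e4, left_eq_add.1 e2, hj0, mul_one]
    · rintro ⟨a, b⟩
      obtain ⟨g, rfl⟩ := hps a
      refine ⟨g * j (φ b - S' g), Prod.ext (by simp only [hp, hpj, add_zero]) ?_⟩
      show φ.symm (S' _) = b
      rw [hS'mul, hS'j, hpj, mul_zero, add_zero, add_sub_cancel, RingEquiv.symm_apply_apply]
  let E := Equiv.ofBijective _ hbij
  refine ⟨F, hF, inferInstance, hchar, φ.symm, fun x y => E.symm (x, y), c,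
    fun e => hφ1 (by rw [← φ.symm_symm, e]; rfl), fun x y x' y' => ?_,
    fun g => ⟨(E g).1, (E g).2, E.symm_apply_apply g⟩,
    fun x y x' y' e => Prod.ext_iff.1 (E.symm.injective e), fun k x y => ?_⟩
  · refine E.injective ?_
    have e1 : ∀ v, E (E.symm v) = v := E.apply_symm_apply
    show (p _, φ.symm (S' _)) = E _
    rw [e1, hp, hS'mul, map_add, map_add, map_mul, RingEquiv.symm_apply_apply]
    have hx := Prod.ext_iff.1 (e1 (x, y))
    have hx' := Prod.ext_iff.1 (e1 (x', y'))
    obtain ⟨f1, f2⟩ : p (E.symm (x, y)) = x ∧ φ.symm (S' (E.symm (x, y))) = y := hx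
    obtain ⟨f3, f4⟩ : p (E.symm (x', y')) = x' ∧ φ.symm (S' (E.symm (x', y'))) = y' := hx'
    rw [f1, f2, f3, f4]
  · refine E.injective ?_
    rw [E.apply_symm_apply]
    show (p _, φ.symm (S' _)) = _
    obtain ⟨f1, f2⟩ : p (E.symm (x, y)) = x ∧ φ.symm (S' (E.symm (x, y))) = y :=
      Prod.ext_iff.1 (E.apply_symm_apply (x, y))
    rw [hpk, hS'k, f1, map_mul, f2]
    show (ψ k * x, φ.symm (φ (ψ k) * ψ k) * y) = (ψ k * x, ψ k * φ.symm (ψ k) * y)
    rw [map_mul, RingEquiv.symm_apply_apply]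

open MulAction CfsgLib.PermSmall CfsgLib.Zass29

variable {G Ω : Type*} [Group G] [Finite G] [MulAction G Ω] [IsSimpleGroup G]

/-- a simple Zassenhaus group whose translations form a non-abelian 2-group is a Suzuki group -/
theorem isoSuzuki_of_translations [Fintype Ω] (hZ : Cfsg.IsZassenhausGroup G Ω) {a b : Ω} (hab : a ≠ b)
    (hodd : Odd (Nat.card (Zassenhaus.pairStab G a b)))
    (H : Subgroup G) (hHa : H ≤ stabilizer G a) (hHcard : Nat.card H + 1 = Fintype.card Ω)
    (hHfix : ∀ u ∈ H, u ≠ 1 → ∀ c : Ω, u • c = c → c = a)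
    (h2 : IsPGroup 2 H) (hna : ∃ u v : H, u * v ≠ v * u) : Cfsg.Lie.IsoSuzuki G := by
  classical
  obtain ⟨T, S⟩ := exists_szSetting hZ hab hodd H hHa hHcard hHfix h2 hna
  letI : CommGroup T.H := { (inferInstance : Group T.H) with mul_comm := fun x y => T.H_comm.is_comm.comm x y }
  letI : MulDistribMulAction T.H T.F :=
    { smul := fun k x => T.conjF k x
      one_smul := fun x => Subtype.ext (by show ((1 : T.H) : G) * x * ((1 : T.H) : G)⁻¹ = x; simp)
      mul_smul := fun k m x => Subtype.ext (by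
        show ((k * m : T.H) : G) * x * ((k * m : T.H) : G)⁻¹ = (k : G) * ((m : G) * x * (m : G)⁻¹) * (k : G)⁻¹
        rw [Subgroup.coe_mul]; group)
      smul_mul := fun k x y => map_mul (T.conjF k) x y
      smul_one := fun k => map_one (T.conjF k) }
  have hset : SuzukiTwo.Setting T.F T.H := by
    refine ⟨S.suzuki.2.1, S.suzuki.2.2.2.1, fun x y hx hx2 hy hy2 => ?_⟩
    obtain ⟨hxc, -⟩ := (S.invol_iff x).1 ⟨hx, hx2⟩
    obtain ⟨hyc, -⟩ := (S.invol_iff y).1 ⟨hy, hy2⟩
    obtain ⟨k, hk⟩ := S.trans x y hxc hx hyc hy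
    refine ⟨k, hk, fun m hm => ?_⟩
    by_contra hne
    have e : (k⁻¹ * m) • x = x := by
      rw [mul_smul, show m • x = y from hm, ← show k • x = y from hk, inv_smul_smul]
    exact hx (T.fixed_translation (h := k⁻¹ * m) (fun e1 => hne (inv_mul_eq_one.1 e1).symm)
      (congrArg Subtype.val e))
  have := Fintype.ofFinite G
  obtain ⟨-, -, -, -, hsq⟩ := S.exists_odd_exponent hZ
  obtain ⟨F, _, _, _, φ, u, c, hφ, humul, husurj, huinj, hsc⟩ :=
    exists_equivariant hset S.suzuki.2.2.1 (by rw [hset.card_invols]; exact hsq)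
  obtain ⟨s, hs, hsa, hsb⟩ := Zassenhaus.exists_swapping hZ hab
  have hs2 : s * s = 1 := by rw [← sq, ← hs, pow_orderOf_eq_one]
  have hu0 : u 0 0 = 1 := by
    have := humul 0 0 0 0
    rw [add_zero, zero_mul, add_zero] at this
    exact mul_eq_left.1 this
  refine Data.isoSuzuki (K := F)
    { φ := φ
      φ_ne := hφ
      a := a
      b := b
      hab := hab
      u := fun x y => (u x y : G)
      u_mul := fun x y x' y' => by rw [← humul, Subgroup.coe_mul]
      D := T.H.subtype.comp c.symm.toMonoidHom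
      D_inj := Subtype.val_injective.comp c.symm.injective
      D_u := fun l x y => by
        show (c.symm l : G) * u x y = _ * (c.symm l : G)
        have e := congrArg Subtype.val (hsc (c.symm l) x y)
        rw [c.apply_symm_apply] at e
        rw [← e]
        show _ = (c.symm l : G) * u x y * (c.symm l : G)⁻¹ * _
        group
      u_a := fun x y => T.F_le (u x y).2
      D_a := fun l => (c.symm l).2.1
      D_b := fun l => (c.symm l).2.2
      free := fun x y e => by
        obtain ⟨w, -, huniq⟩ := T.regular b b (Ne.symm T.ne) (Ne.symm T.ne)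
        exact huinj x y 0 0 (((huniq _ e).trans (huniq 1 (one_smul _ _)).symm).trans hu0.symm)
      cover := fun p hp => by
        obtain ⟨w, hw, -⟩ := T.regular b p (Ne.symm T.ne) hp
        obtain ⟨x, y, rfl⟩ := husurj w
        exact ⟨x, y, hw⟩
      stab := fun g ha hb => ⟨c ⟨g, ha, hb⟩, by simp⟩
      three := fun g p ha hb hpa hpb hp => T.three g a b p hab (Ne.symm hpb) (Ne.symm hpa) ha hb hp
      w := s
      w_sq := hs2
      w_a := hsa
      w_D := fun l => by
        show s * (c.symm l : G) = (c.symm l⁻¹ : G) * s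
        rw [map_inv, Subgroup.coe_inv, ← T.inv s hsa hsb _ (c.symm l).2]
        group
      no_three := fun g hg => by
        by_contra h1
        obtain ⟨-, m, -, hm⟩ := S.isSuzuki hZ
        have h3 : 3 ∣ Nat.card G := (orderOf_eq_prime hg h1) ▸ orderOf_dvd_natCard g
        rw [hm] at h3
        have h : 2 ^ (2 * m + 1) % 3 = 2 := by
          rw [pow_succ, pow_mul, Nat.mul_mod, Nat.pow_mod]
          norm_num
        generalize 2 ^ (2 * m + 1) = q at *
        obtain ⟨k, rfl⟩ : ∃ k, q = 3 * k + 2 := ⟨q / 3, by omega⟩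
        rw [Nat.dvd_iff_mod_eq_zero, show 3 * k + 2 - 1 = 3 * k + 1 by omega] at h3
        simp [Nat.pow_mod, Nat.mul_mod, Nat.add_mod] at h3 }

/-- the version with a regular normal subgroup of a point stabiliser -/
theorem isoSuzuki_of_regular [Finite Ω] (hZ : Cfsg.IsZassenhausGroup G Ω) (x : Ω) (U : Subgroup G)
    (hUle : U ≤ stabilizer G x) (hU2 : IsPGroup 2 U) (hUna : ∃ u v : U, u * v ≠ v * u)
    (hreg : ∀ y z : Ω, y ≠ x → z ≠ x → ∃! u : U, (u : G) • y = z) : Cfsg.Lie.IsoSuzuki G := by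
  classical
  haveI := Fintype.ofFinite Ω
  haveI := hZ.1
  obtain ⟨b, hbx, -⟩ := Zassenhaus.exists_ne_ne hZ x x
  have hxb : x ≠ b := Ne.symm hbx
  have hfix : ∀ u ∈ U, u ≠ 1 → ∀ c : Ω, u • c = c → c = x := by
    intro u hu hu1 c hc
    by_contra hcx
    obtain ⟨w, -, huniq⟩ := hreg c c hcx hcx
    exact hu1 (congrArg Subtype.val ((huniq ⟨u, hu⟩ hc).trans (huniq 1 (one_smul _ _)).symm))
  have hcard : Nat.card U + 1 = Fintype.card Ω := by
    have hne : ∀ u : U, (u : G) • b ≠ x := fun u e =>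
      hbx (smul_left_cancel (u : G) (e.trans (hUle u.2).symm))
    have h : Nat.card U = Nat.card {y : Ω // ¬ y = x} := by
      refine Nat.card_eq_of_bijective (fun u => ⟨(u : G) • b, hne u⟩) ⟨?_, ?_⟩
      · intro u v e
        obtain ⟨w, -, huniq⟩ := hreg b ((u : G) • b) hbx (hne u)
        exact (huniq u rfl).trans (huniq v (congrArg Subtype.val e).symm).symm
      · rintro ⟨y, hy⟩
        obtain ⟨u, hu, -⟩ := hreg b y hbx hy
        exact ⟨u, Subtype.ext hu⟩
    rw [Nat.card_eq_fintype_card (α := {y : Ω // ¬ y = x}), Fintype.card_subtype_compl,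
      Fintype.card_subtype_eq] at h
    have := Fintype.card_pos_iff.mpr ⟨x⟩
    omega
  rcases Nat.even_or_odd (Nat.card (Zassenhaus.pairStab G x b)) with he | ho
  · obtain ⟨K, hK, hmem⟩ := Zassenhaus.exists_kernel hZ hxb he
    have hle : U ≤ K := fun u hu => by
      rw [hmem]
      by_cases hu1 : u = 1
      · exact Or.inl hu1
      · exact Or.inr fun y => ⟨hfix u hu hu1 y, fun e => e ▸ hUle hu⟩
    obtain ⟨u, v, huv⟩ := hUna
    refine absurd ?_ huv
    apply Subtype.ext
    exact congrArg (fun z : K => (z : G)) (hK.is_comm.comm ⟨u, hle u.2⟩ ⟨v, hle v.2⟩)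
  · exact isoSuzuki_of_translations hZ hxb ho U hUle hcard hfix hU2 hUna

end CfsgLib.Suzuki.Recognition
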