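import Mathlib

/-!
# The field computations of the uniqueness proof for the Suzuki groups

`l` and `m` are the parameters of `t = l φ(l)` and `t + 1 = m φ(m)`; `A, B` and `A', B'` are the coordinates
attached to `t` and `t + 1`.
-/

set_option autoImplicit false

namespace CfsgLib.Suzuki.Recognition

variable {F : Type*} [Field F] [CharP F 2]

theorem two_eq_zero' : (2 : F) = 0 := by
  have h := CharP.cast_eq_zero F 2
  simpa using h

theorem eq_of_relations_aux {e l m L M A A' a a' B B' : F}
    (hlm : l * L + m * M = 1)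
    (hA : l * A = 1 + A') (hA' : m * A' = 1 + A)
    (ha : L * a = 1 + a') (ha' : M * a' = 1 + a)
    (hB : l * L * B = e + B' + a') (hB' : m * M * B' = e + B + a)
    (hsym : B + B' = e * (A * a + A' * a')) :
    e * (((l * L) * L + (m * M) * M + 1) * (l * m + 1)
        + ((l * L) * l + (m * M) * m + 1) * (L * M + 1))
      = ((l * L) * L + (m * M) * M + 1) * (l * m + 1) := by
  have h2 : (2 : F) = 0 := two_eq_zero'
  have hDA : (l * m + 1) * A = m + 1 := by grind
  have hDA' : (l * m + 1) * A' = l + 1 := by grind
  have hEA : (L * M + 1) * a = M + 1 := by grind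
  have hEA' : (L * M + 1) * a' = L + 1 := by grind
  obtain ⟨P, hP⟩ : ∃ P, P = A * a + A' * a' := ⟨_, rfl⟩
  rw [← hP] at hsym
  obtain ⟨t, ht⟩ : ∃ t, t = l * L := ⟨_, rfl⟩
  have hs : m * M = t + 1 := by grind
  rw [← ht] at hB
  rw [hs] at hB'
  have hB1 : B = t * e * P + a + a' := by grind
  have hkey : e * (P * (t * t) + (t + 1) * P + 1) = t * a' + (t + 1) * a := by
    clear hDA hDA' hEA hEA' hA hA' ha ha' hlm hs hB' hP ht
    grind
  have hR : (t * a' + (t + 1) * a) * ((l * m + 1) * (L * M + 1)) =
      (t * L + (t + 1) * M + 1) * (l * m + 1) := by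
    calc _ = (t * ((L * M + 1) * a') + (t + 1) * ((L * M + 1) * a)) * (l * m + 1) := by ring
      _ = (t * (L + 1) + (t + 1) * (M + 1)) * (l * m + 1) := by rw [hEA, hEA']
      _ = _ := by
        have e : t * (L + 1) + (t + 1) * (M + 1) = t * L + (t + 1) * M + 1 := by
          clear hkey hB1 hB hB' hDA hDA' hEA hEA' hA hA' ha ha' hlm hs hP ht hsym
          grind
        rw [e]
  have hL : (P * (t * t) + (t + 1) * P + 1) * ((l * m + 1) * (L * M + 1)) =
      ((m + 1) * (M + 1) + (l + 1) * (L + 1)) * (t * t + (t + 1)) +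
        (l * m + 1) * (L * M + 1) := by
    calc _ = (((l * m + 1) * A) * ((L * M + 1) * a) + ((l * m + 1) * A') * ((L * M + 1) * a'))
          * (t * t + (t + 1)) + (l * m + 1) * (L * M + 1) := by rw [hP]; ring
      _ = _ := by rw [hDA, hDA', hEA, hEA']
  have hid : ((m + 1) * (M + 1) + (l + 1) * (L + 1)) * (t * t + (t + 1)) +
        (l * m + 1) * (L * M + 1) =
      (t * L + (t + 1) * M + 1) * (l * m + 1) + (t * l + (t + 1) * m + 1) * (L * M + 1) := by
    clear hkey hB1 hB hB' hDA hDA' hEA hEA' hA hA' ha ha' hlm hP hsym hR hL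
    grind
  have hmul : e * ((P * (t * t) + (t + 1) * P + 1) * ((l * m + 1) * (L * M + 1))) =
      (t * a' + (t + 1) * a) * ((l * m + 1) * (L * M + 1)) := by
    rw [← mul_assoc, hkey]
  rw [hR, hL, hid] at hmul
  rw [hs, ← ht]
  exact hmul

/-- the relation between the parameter `e` and the two coordinate relations -/
theorem eq_of_relations {φ : F ≃+* F} {e l m A A' B B' : F}
    (hlm : l * φ l + m * φ m = 1)
    (hA : l * A = 1 + A') (hA' : m * A' = 1 + A)
    (hB : l * φ l * B = e + B' + φ A') (hB' : m * φ m * B' = e + B + φ A)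
    (hsym : B + B' = e * (A * φ A + A' * φ A')) :
    e * (((l * φ l) * φ l + (m * φ m) * φ m + 1) * (l * m + 1)
        + ((l * φ l) * l + (m * φ m) * m + 1) * φ (l * m + 1))
      = ((l * φ l) * φ l + (m * φ m) * φ m + 1) * (l * m + 1) := by
  have hφA : φ l * φ A = 1 + φ A' := by rw [← map_mul, hA, map_add, map_one]
  have hφA' : φ m * φ A' = 1 + φ A := by rw [← map_mul, hA', map_add, map_one]
  rw [map_add φ (l * m), map_mul φ l, map_one φ]
  exact eq_of_relations_aux hlm hA hA' hφA hφA' hB hB' hsym

/-- the Galois argument: a coefficient solving a family of linear equations over `GF(2)` is `0` or `1`,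
unless both coefficient families vanish -/
theorem sq_eq {e x y : F} (h : e * (x + y) = x) (h' : e * (x * x + y * y) = x * x) :
    e * e = e ∨ (x = 0 ∧ y = 0) := by
  have h2 : (2 : F) = 0 := two_eq_zero'
  by_cases hxy : x + y = 0
  · rw [hxy, mul_zero] at h
    exact Or.inr ⟨h.symm, by rwa [← h, zero_add] at hxy⟩
  · left
    have : (e * e) * ((x + y) * (x + y)) = e * ((x + y) * (x + y)) := by grind
    exact mul_right_cancel₀ (mul_ne_zero hxy hxy) this

/-- an endomorphism in disguise -/
theorem exists_hom {φ : F ≃+* F} (hN : Function.Bijective fun x : F => x * φ x)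
    (c : F →* F) (hc0 : c 0 = 0)
    (h : ∀ l m : F, l * φ l + m * φ m = 1 → c l + c m = 1) :
    ∃ T : F →+* F, ∀ x, T (x * φ x) = c x := by
  let E := Equiv.ofBijective _ hN
  have hE : ∀ x, E.symm (x * φ x) = x := fun x => E.symm_apply_apply x
  have hE' : ∀ t, E.symm t * φ (E.symm t) = t := fun t => E.apply_symm_apply t
  have hmul : ∀ s t, E.symm (s * t) = E.symm s * E.symm t := fun s t => by
    conv_lhs => rw [← hE' s, ← hE' t]
    rw [show E.symm s * φ (E.symm s) * (E.symm t * φ (E.symm t)) =
      (E.symm s * E.symm t) * φ (E.symm s * E.symm t) by rw [map_mul]; ring, hE]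
  have h2 : (2 : F) = 0 := two_eq_zero'
  let g : F → F := fun t => c (E.symm t)
  have hgmul : ∀ s t, g (s * t) = g s * g t := fun s t => by
    show c (E.symm (s * t)) = _
    rw [hmul, map_mul]
  have hg1 : ∀ t, g t + g (t + 1) = 1 := fun t => h _ _ (by rw [hE', hE']; grind)
  have hz : E.symm 0 = 0 := by
    have := hE 0
    rwa [zero_mul] at this
  have hone : E.symm 1 = 1 := by
    have := hE 1
    rwa [map_one, one_mul] at this
  have hg0 : g 0 = 0 := by show c (E.symm 0) = 0; rw [hz, hc0]
  have hadd : ∀ x y, g (x + y) = g x + g y := fun x y => by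
    by_cases hy : y = 0
    · rw [hy, add_zero, hg0, add_zero]
    · have e1 : x + y = y * (x / y + 1) := by field_simp
      have e3 : g x = g y * g (x / y) := by rw [← hgmul, mul_div_cancel₀ _ hy]
      rw [e1, hgmul, e3]
      have := hg1 (x / y)
      grind
  refine ⟨{ toFun := g
            map_one' := by show c (E.symm 1) = 1; rw [hone, map_one]
            map_mul' := hgmul
            map_zero' := hg0
            map_add' := hadd }, fun x => ?_⟩
  show c (E.symm (x * φ x)) = c x
  rw [hE]

/-- two endomorphisms whose product agrees with a product of two endomorphisms -/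
theorem hom_pair (S T U V : F →+* F) (h : ∀ x, S x * T x = U x * V x) :
    (∀ x, S x = U x) ∨ ∀ x, S x = V x := by
  have h2 : (2 : F) = 0 := two_eq_zero'
  have hpt : ∀ x, S x = U x ∨ S x = V x := fun x => by
    have e1 := h (x + 1)
    simp only [map_add, map_one] at e1
    have e2 := h x
    have e3 : S x + T x = U x + V x := by grind
    have e4 : (S x - U x) * (S x - V x) = 0 := by grind
    rcases mul_eq_zero.1 e4 with e5 | e5
    · exact Or.inl (sub_eq_zero.1 e5)
    · exact Or.inr (sub_eq_zero.1 e5)
  by_contra! hc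
  obtain ⟨⟨x, hx⟩, y, hy⟩ := hc
  have hxV := (hpt x).resolve_left hx
  have hyU := (hpt y).resolve_right hy
  rcases hpt (x + y) with e | e <;> simp only [map_add] at e
  · rw [hyU] at e
    exact hx (add_right_cancel e)
  · rw [hxV] at e
    exact hy (add_left_cancel e)

/-- the squaring endomorphism -/
def sqHom : F →+* F where
  toFun x := x * x
  map_one' := one_mul 1
  map_mul' x y := by ring
  map_zero' := zero_mul 0
  map_add' x y := by
    have h2 : (2 : F) = 0 := two_eq_zero'
    grind

@[simp] theorem sqHom_apply (x : F) : sqHom x = x * x := rfl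

omit [CharP F 2] in
theorem eq_refl_of_sq {φ : F ≃+* F} (h : ∀ x, φ x * φ x = φ x) : φ = RingEquiv.refl F := by
  refine RingEquiv.ext fun x => ?_
  show φ x = x
  rcases (mul_left_eq_self₀.1 (h x)) with e | e
  · rw [show x = 1 from φ.injective (e.trans (map_one φ).symm), map_one]
  · rw [show x = 0 from φ.injective (e.trans (map_zero φ).symm), map_zero]

/-- the automorphism is a square root of the Frobenius -/
theorem sq_of_gamma {φ : F ≃+* F} (hN : Function.Bijective fun x : F => x * φ x)
    (hφ : φ ≠ RingEquiv.refl F)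
    (h : ∀ l m : F, l * φ l + m * φ m = 1 → l * φ l * l + m * φ m * m = 1) :
    ∀ x, φ (φ x) = x * x := by
  obtain ⟨T, hT⟩ := exists_hom hN
    { toFun := fun x => x * φ x * x, map_one' := by simp, map_mul' := fun x y => by rw [map_mul]; ring }
    (by simp) h
  have hT' : ∀ x, T x * T (φ x) = (x * x) * φ x := fun x => by
    rw [← map_mul]
    exact (hT x).trans (by show x * φ x * x = _; ring)
  rcases hom_pair T (T.comp φ.toRingHom) sqHom φ.toRingHom hT' with h1 | h1
  · refine absurd (eq_refl_of_sq fun x => ?_) hφ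
    by_cases hx : x = 0
    · simp [hx]
    have := hT' x
    rw [h1, h1, sqHom_apply, sqHom_apply] at this
    exact mul_left_cancel₀ (mul_ne_zero hx hx) this
  · intro x
    by_cases hx : x = 0
    · simp [hx]
    have := hT' x
    rw [h1, h1] at this
    exact mul_left_cancel₀ ((EmbeddingLike.map_ne_zero_iff (f := φ)).2 hx)
      (this.trans (mul_comm _ _))

/-- both coefficient families cannot vanish -/
theorem false_of_both {φ : F ≃+* F} (hN : Function.Bijective fun x : F => x * φ x)
    (hφ : φ ≠ RingEquiv.refl F)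
    (hb : ∀ l m : F, l * φ l + m * φ m = 1 → l * φ l * φ l + m * φ m * φ m = 1)
    (hc : ∀ l m : F, l * φ l + m * φ m = 1 → l * φ l * l + m * φ m * m = 1) : False := by
  have hsq := sq_of_gamma hN hφ hc
  obtain ⟨T, hT⟩ := exists_hom hN
    { toFun := fun x => x * φ x * φ x, map_one' := by simp, map_mul' := fun x y => by rw [map_mul]; ring }
    (by simp) hb
  have hT' : ∀ x, T x * T (φ x) = x * (φ x * φ x) := fun x => by
    rw [← map_mul]
    exact (hT x).trans (by show x * φ x * φ x = _; ring)
  apply hφ
  rcases hom_pair T (T.comp φ.toRingHom) (RingHom.id F) (sqHom.comp φ.toRingHom) hT' with h1 | h1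
  · refine eq_refl_of_sq fun x => ?_
    by_cases hx : x = 0
    · simp [hx]
    have := hT' x
    rw [h1, h1] at this
    exact (mul_left_cancel₀ hx this).symm
  · have h4 : ∀ x : F, (x * x) * (x * x) = x := fun x => by
      by_cases hx : x = 0
      · simp [hx]
      have e := hT' x
      rw [h1, h1] at e
      simp only [RingHom.comp_apply, sqHom_apply, RingEquiv.toRingHom_eq_coe, RingEquiv.coe_toRingHom] at e
      rw [hsq x] at e
      have hne : φ x * φ x ≠ 0 := mul_self_ne_zero.2 ((EmbeddingLike.map_ne_zero_iff (f := φ)).2 hx)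
      exact mul_left_cancel₀ hne (e.trans (mul_comm _ _))
    refine RingEquiv.ext fun x => ?_
    show φ x = x
    have h2 : (2 : F) = 0 := two_eq_zero'
    have hmin : ∀ y : F, y = 0 ∨ y = 1 ∨ y * y + y + 1 = 0 := fun y => by
      have := h4 y
      by_cases hy : y = 0
      · exact Or.inl hy
      by_cases hy1 : y = 1
      · exact Or.inr (Or.inl hy1)
      right; right
      have e : (y * (y - 1)) * (y * y + y + 1) = 0 := by grind
      exact (mul_eq_zero.1 e).resolve_left (mul_ne_zero hy (sub_ne_zero.2 hy1))
    rcases hmin x with rfl | rfl | hx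
    · simp
    · simp
    have hφx : φ x * φ x + φ x + 1 = 0 := by
      have := congrArg φ hx
      simpa using this
    have e : (φ x - x) * (φ x - (x + 1)) = 0 := by grind
    rcases mul_eq_zero.1 e with e | e
    · exact sub_eq_zero.1 e
    · exfalso
      have e' : φ x = x + 1 := sub_eq_zero.1 e
      have := hsq x
      rw [e', map_add, map_one, e'] at this
      grind

end CfsgLib.Suzuki.Recognition
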