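import Mathlib
import Cfsg.Agent.Lib.Suzuki.Recognition.Algebra

/-!
# Coordinates of a doubly transitive group with a point stabiliser of type A

`u x y` is the regular normal subgroup of the stabiliser of `a`, with `u x y * u x' y' = u (x+x') (y+y'+x φ(x'))`,
`D` the two-point stabiliser and `w` an involution exchanging `a` and `b`.  `R p q k r` is the structure equation
`w u(p) w = u(q) D(k) w u(r)`.
-/

set_option autoImplicit false

namespace CfsgLib.Suzuki.Recognition

/-- coordinates -/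
structure Data (G Ω F : Type*) [Group G] [MulAction G Ω] [Field F] where
  φ : F ≃+* F
  φ_ne : φ ≠ RingEquiv.refl F
  a : Ω
  b : Ω
  hab : a ≠ b
  u : F → F → G
  u_mul : ∀ x y x' y', u x y * u x' y' = u (x + x') (y + y' + x * φ x')
  D : Fˣ →* G
  D_inj : Function.Injective D
  D_u : ∀ (l : Fˣ) (x y : F), D l * u x y = u (l * x) (l * φ l * y) * D l
  u_a : ∀ x y, u x y • a = a
  D_a : ∀ l, D l • a = a
  D_b : ∀ l, D l • b = b
  free : ∀ x y, u x y • b = b → x = 0 ∧ y = 0
  cover : ∀ p, p ≠ a → ∃ x y, u x y • b = p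
  stab : ∀ g : G, g • a = a → g • b = b → g ∈ D.range
  three : ∀ (g : G) (p : Ω), g • a = a → g • b = b → p ≠ a → p ≠ b → g • p = p → g = 1
  w : G
  w_sq : w * w = 1
  w_a : w • a = b
  w_D : ∀ l, w * D l = D l⁻¹ * w
  no_three : ∀ g : G, g ^ 3 = 1 → g = 1

namespace Data

variable {G Ω F : Type*} [Group G] [MulAction G Ω] [Field F] (d : Data G Ω F)

/-- multiplication of coordinate pairs -/
def mulV (v v' : F × F) : F × F := (v.1 + v'.1, v.2 + v'.2 + v.1 * d.φ v'.1)

/-- inversion of coordinate pairs -/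
def invV (v : F × F) : F × F := (v.1, v.2 + v.1 * d.φ v.1)

/-- the action of the torus on coordinate pairs -/
def sV (l : Fˣ) (v : F × F) : F × F := (l * v.1, l * d.φ l * v.2)

/-- the group element with given coordinates -/
def U (v : F × F) : G := d.u v.1 v.2

theorem U_mul (v v' : F × F) : d.U v * d.U v' = d.U (d.mulV v v') := d.u_mul _ _ _ _

theorem U_mul_assoc (v v' : F × F) (g : G) : d.U v * (d.U v' * g) = d.U (d.mulV v v') * g := by
  rw [← mul_assoc, d.U_mul]

theorem U_zero : d.U (0, 0) = 1 := by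
  have h := d.U_mul (0, 0) (0, 0)
  simp only [mulV, add_zero, zero_mul] at h
  exact mul_eq_left.1 h

theorem D_U (l : Fˣ) (v : F × F) : d.D l * d.U v = d.U (d.sV l v) * d.D l := d.D_u l _ _

theorem D_U_assoc (l : Fˣ) (v : F × F) (g : G) :
    d.D l * (d.U v * g) = d.U (d.sV l v) * (d.D l * g) := by
  rw [← mul_assoc, d.D_U, mul_assoc]

theorem D_D_assoc (l l' : Fˣ) (g : G) : d.D l * (d.D l' * g) = d.D (l * l') * g := by
  rw [← mul_assoc, ← map_mul]

theorem w_D_assoc (l : Fˣ) (g : G) : d.w * (d.D l * g) = d.D l⁻¹ * (d.w * g) := by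
  rw [← mul_assoc, d.w_D, mul_assoc]

theorem w_w_assoc (g : G) : d.w * (d.w * g) = g := by rw [← mul_assoc, d.w_sq, one_mul]

theorem sV_sV (l l' : Fˣ) (v : F × F) : d.sV l (d.sV l' v) = d.sV (l * l') v := by
  simp only [sV, Units.val_mul, map_mul, Prod.mk.injEq]
  constructor <;> ring

theorem sV_one (v : F × F) : d.sV 1 v = v := by simp [sV]

theorem w_inv : d.w⁻¹ = d.w := inv_eq_of_mul_eq_one_left d.w_sq

theorem w_b : d.w • d.b = d.a := by rw [← d.w_a, smul_smul, d.w_sq, one_smul]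

theorem U_a (v : F × F) : d.U v • d.a = d.a := d.u_a _ _

theorem U_b_ne_a (v : F × F) : d.U v • d.b ≠ d.a := fun h => d.hab (by
  have := h.trans (d.U_a v).symm
  exact (MulAction.injective (d.U v) this).symm)

section Char

variable [CharP F 2]

theorem mulV_invV (v : F × F) : d.mulV v (d.invV v) = (0, 0) := by
  simp only [mulV, invV, Prod.mk.injEq]
  constructor <;> grind [two_eq_zero' (F := F)]

theorem U_invV (v : F × F) : d.U (d.invV v) = (d.U v)⁻¹ := by
  rw [eq_comm, inv_eq_iff_mul_eq_one, d.U_mul, d.mulV_invV, d.U_zero]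

theorem U_inj {v v' : F × F} (h : d.U v • d.b = d.U v' • d.b) : v = v' := by
  have e : d.U (d.mulV (d.invV v) v') • d.b = d.b := by
    rw [← d.U_mul, d.U_invV, mul_smul, ← h, inv_smul_smul]
  obtain ⟨e1, e2⟩ := d.free _ _ e
  simp only [mulV, invV] at e1 e2
  have h1 : v.1 = v'.1 := by grind [two_eq_zero' (F := F)]
  refine Prod.ext h1 ?_
  rw [← h1] at e2
  grind [two_eq_zero' (F := F)]

theorem U_injective : Function.Injective d.U := fun v v' h => d.U_inj (by rw [h])

end Char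

/-- the structure equation -/
def R (p q : F × F) (k : Fˣ) (r : F × F) : Prop :=
  d.w * d.U p * d.w = d.U q * d.D k * d.w * d.U r

variable [CharP F 2]

omit [CharP F 2] in
theorem R.ne_zero {d : Data G Ω F} {p q r : F × F} {k : Fˣ} (h : d.R p q k r) : p ≠ (0, 0) := by
  rintro rfl
  have h' : (1 : G) • d.a = (d.U q * d.D k * d.w * d.U r) • d.a := by
    rw [← h, d.U_zero, mul_one, d.w_sq]
  simp only [one_smul, mul_smul, d.U_a, d.w_a, d.D_b] at h'
  exact d.U_b_ne_a q h'.symm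

theorem exists_R {p : F × F} (hp : p ≠ (0, 0)) :
    ∃ q k r, d.R p q k r ∧ q ≠ (0, 0) := by
  set g := d.w * d.U p * d.w with hg
  have hb : g • d.a ≠ d.b := fun h => by
    rw [hg, mul_smul, mul_smul, d.w_a] at h
    exact d.U_b_ne_a p (MulAction.injective d.w (h.trans d.w_a.symm))
  have ha : g • d.a ≠ d.a := fun h => by
    simp only [hg, mul_smul, d.w_a] at h
    have e := MulAction.injective d.w (h.trans d.w_b.symm)
    exact hp (d.U_inj (e.trans (by rw [d.U_zero, one_smul])))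
  obtain ⟨x, y, hxy⟩ := d.cover _ ha
  set q : F × F := (x, y)
  have hq : d.U q • d.b = g • d.a := hxy
  set m := (d.U q)⁻¹ * g
  have hma : m • d.a = d.b := by rw [mul_smul, ← hq, inv_smul_smul]
  set h := d.w * m
  have hha : h • d.a = d.a := by rw [mul_smul, hma, d.w_b]
  have hhb : h • d.b ≠ d.a := fun e => d.hab (MulAction.injective h (hha.trans e.symm))
  obtain ⟨x', y', hxy'⟩ := d.cover _ hhb
  set r' : F × F := (x', y')
  have hr' : d.U r' • d.b = h • d.b := hxy'
  obtain ⟨j, hj⟩ := d.stab ((d.U r')⁻¹ * h)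
    (by rw [mul_smul, hha]; exact inv_smul_eq_iff.2 (d.U_a r').symm)
    (by rw [mul_smul, ← hr', inv_smul_smul])
  refine ⟨q, j⁻¹, d.sV j⁻¹ r', ?_, fun e => hb (by rw [← hq, e, d.U_zero, one_smul])⟩
  have e1 : d.U r' * d.D j = h := by rw [hj, mul_inv_cancel_left]
  have e2 : d.U r' * d.D j = d.D j * d.U (d.sV j⁻¹ r') := by
    rw [d.D_U, d.sV_sV, mul_inv_cancel, d.sV_one]
  have e3 : d.w * h = m := d.w_w_assoc m
  calc g = d.U q * m := (mul_inv_cancel_left _ _).symm
    _ = d.U q * (d.w * (d.D j * d.U (d.sV j⁻¹ r'))) := by rw [← e2, e1, e3]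
    _ = _ := by rw [d.w_D_assoc]; simp only [mul_assoc]

theorem R.unique {d : Data G Ω F} {p q r q' r' : F × F} {k k' : Fˣ}
    (h : d.R p q k r) (h' : d.R p q' k' r') : q = q' ∧ k = k' ∧ r = r' := by
  have e : d.U q * d.D k * d.w * d.U r = d.U q' * d.D k' * d.w * d.U r' := h.symm.trans h'
  have hq : q = q' := by
    refine d.U_inj ?_
    have := congrArg (· • d.a) e
    simpa only [mul_smul, d.U_a, d.w_a, d.D_b] using this
  subst hq
  have e1 : d.D k * d.w * d.U r = d.D k' * d.w * d.U r' := by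
    simpa only [mul_assoc, mul_right_inj] using e
  have hr : r = r' := by
    refine d.U_inj ?_
    have e2 : d.U r = d.D (k * k'⁻¹) * d.U r' := by
      have := congrArg (d.w * d.D k⁻¹ * ·) e1
      simpa only [mul_assoc, d.D_D_assoc, inv_mul_cancel, map_one, one_mul, d.w_w_assoc,
        d.w_D_assoc, mul_inv_rev, inv_inv, mul_comm k'⁻¹ k] using this
    rw [e2, d.D_U, mul_smul, d.D_b]
    have hk : k * k'⁻¹ = 1 := by
      apply d.D_inj
      rw [map_one]
      have e4 : d.U r * (d.U r')⁻¹ = d.D (k * k'⁻¹) := by rw [e2, mul_inv_cancel_right]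
      rw [← d.U_invV, d.U_mul] at e4
      have e3 := congrArg (· • d.b) e4
      simp only [d.D_b] at e3
      obtain ⟨f1, f2⟩ := d.free _ _ e3
      rw [← e4, show d.mulV r (d.invV r') = (0, 0) from Prod.ext f1 f2, d.U_zero]
    rw [hk, d.sV_one]
  subst hr
  exact ⟨rfl, d.D_inj (mul_right_cancel (mul_right_cancel e1)), rfl⟩

omit [CharP F 2] in
theorem R.scale {d : Data G Ω F} {p q r : F × F} {k : Fˣ} (h : d.R p q k r) (l : Fˣ) :
    d.R (d.sV l p) (d.sV l⁻¹ q) (k * l⁻¹ * l⁻¹) (d.sV l⁻¹ r) := by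
  have h' : d.w * d.U p * d.w = d.U q * d.D k * d.w * d.U r := h
  show _ = _
  have e0 : d.U (d.sV l p) = d.D l * d.U p * d.D l⁻¹ := by
    rw [d.D_U, mul_assoc, ← map_mul, mul_inv_cancel, map_one, mul_one]
  have e1 : d.w * d.U (d.sV l p) * d.w = d.D l⁻¹ * (d.w * d.U p * d.w) * d.D l := by
    rw [e0]
    simp only [mul_assoc]
    rw [d.w_D l, d.w_D_assoc]
  have e2 : d.U r * d.D l = d.D l * d.U (d.sV l⁻¹ r) := by
    rw [d.D_U, d.sV_sV, mul_inv_cancel, d.sV_one]
  rw [e1, h']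
  simp only [mul_assoc]
  rw [e2, d.w_D_assoc, d.D_U_assoc, d.D_D_assoc, d.D_D_assoc, mul_comm l⁻¹ k, ← mul_assoc k]

theorem R.inv {d : Data G Ω F} {p q r : F × F} {k : Fˣ} (h : d.R p q k r) :
    d.R (d.invV p) (d.invV r) k (d.invV q) := by
  show d.w * _ * d.w = _
  have e := congrArg (·⁻¹) (show d.w * d.U p * d.w = _ from h)
  simp only [mul_inv_rev, d.w_inv, ← map_inv] at e
  rw [d.U_invV, d.U_invV, d.U_invV]
  simp only [mul_assoc] at e ⊢
  rw [e, d.w_D_assoc, inv_inv]

theorem R.symm {d : Data G Ω F} {p q r : F × F} {k : Fˣ} (h : d.R p q k r) :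
    d.R q p k⁻¹ (d.sV k⁻¹ (d.invV r)) := by
  show d.w * _ * d.w = _
  have e : d.U q = d.w * d.U p * d.w * (d.U r)⁻¹ * d.w * d.D k⁻¹ := by
    rw [show d.w * d.U p * d.w = _ from h]
    rw [mul_inv_cancel_right, mul_assoc (_ * d.D k) d.w d.w, d.w_sq, mul_one, mul_assoc,
      ← map_mul, mul_inv_cancel, map_one, mul_one]
  rw [e, ← d.U_invV]
  simp only [mul_assoc, d.w_w_assoc]
  congr 1
  have e2 : d.U (d.invV r) * d.D k = d.D k * d.U (d.sV k⁻¹ (d.invV r)) := by
    rw [d.D_U, d.sV_sV, mul_inv_cancel, d.sV_one]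
  rw [show d.D k⁻¹ * d.w = d.w * d.D k from (d.w_D k).symm, d.w_w_assoc, e2, d.w_D_assoc]

omit [CharP F 2] in
theorem R.mul {d : Data G Ω F} {p q r p' q' r' q'' r'' : F × F} {k k' k'' : Fˣ}
    (h : d.R p q k r) (h' : d.R p' q' k' r') (h'' : d.R (d.mulV r q') q'' k'' r'') :
    d.R (d.mulV p p') (d.mulV q (d.sV k q'')) (k * k'' * k')
      (d.mulV (d.sV k' r'') r') := by
  show d.w * _ * d.w = _
  have e0 : d.w * d.U (d.mulV p p') * d.w = (d.w * d.U p * d.w) * (d.w * d.U p' * d.w) := by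
    simp only [← d.U_mul, mul_assoc, d.w_w_assoc]
  have e1 : d.w * d.U (d.mulV r q') = d.U q'' * d.D k'' * d.w * d.U r'' * d.w := by
    rw [← show d.w * _ * d.w = _ from h'']
    simp only [mul_assoc, d.w_sq, mul_one]
  have e2 : d.U r'' * d.D k'⁻¹ = d.D k'⁻¹ * d.U (d.sV k' r'') := by
    rw [d.D_U, d.sV_sV, inv_mul_cancel, d.sV_one]
  rw [e0, show d.w * d.U p * d.w = _ from h, show d.w * d.U p' * d.w = _ from h']
  calc _ = d.U q * d.D k * (d.w * d.U (d.mulV r q')) * d.D k' * d.w * d.U r' := by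
        rw [← d.U_mul]; simp only [mul_assoc]
    _ = d.U q * d.D k * (d.U q'' * (d.D k'' * (d.w * (d.U r'' * (d.D k'⁻¹ * d.U r'))))) := by
        rw [e1]; simp only [mul_assoc, d.w_D_assoc, d.w_w_assoc]
    _ = _ := by
      rw [← mul_assoc (d.U r''), e2]
      simp only [mul_assoc, d.U_mul]
      rw [d.D_U_assoc, d.U_mul_assoc, d.w_D_assoc, inv_inv, d.D_D_assoc, d.D_D_assoc, ← mul_assoc k]

end Data

end CfsgLib.Suzuki.Recognition
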