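import Mathlib
import Cfsg.Agent.Lib.Suzuki.Recognition.Data

/-!
# The normal form: the automorphism squares to the Frobenius and `f(0,1) = (1,1)`
-/

set_option autoImplicit false

namespace CfsgLib.Suzuki.Recognition

namespace Data

variable {G Ω F : Type*} [Group G] [MulAction G Ω] [Field F] [CharP F 2] (d : Data G Ω F)

omit [CharP F 2] in
theorem norm_eq_zero {l : F} (h : l * d.φ l = 0) : l = 0 := by
  rcases mul_eq_zero.1 h with h | h
  · exact h
  · exact d.φ.injective (h.trans (map_zero _).symm)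

theorem norm_injective : Function.Injective fun x : F => x * d.φ x := by
  intro l m h
  simp only at h
  by_cases hm : m = 0
  · rw [hm, zero_mul] at h
    rw [hm, d.norm_eq_zero h]
  have hl : l ≠ 0 := fun hl => hm (d.norm_eq_zero (by rw [← h, hl, zero_mul]))
  have hφ : d.φ m ≠ 0 := (EmbeddingLike.map_ne_zero_iff (f := d.φ)).2 hm
  have hr : (l / m) * d.φ (l / m) = 1 := by
    rw [map_div₀, div_mul_div_comm, h, div_self (mul_ne_zero hm hφ)]
  set r : Fˣ := Units.mk0 (l / m) (div_ne_zero hl hm) with hr'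
  have hs : d.sV r (0, 1) = (0, 1) := by
    simp only [sV, mul_zero, mul_one, hr', Units.val_mk0, hr]
  have h1 : d.D r = 1 := d.three _ (d.U (0, 1) • d.b) (d.D_a r) (d.D_b r) (d.U_b_ne_a _)
    (fun e => by
      have := d.U_inj (e.trans (by rw [d.U_zero, one_smul]) : d.U (0, 1) • d.b = d.U (0, 0) • d.b)
      simp at this)
    (by rw [smul_smul, d.D_U, hs, mul_smul, d.D_b])
  have := congrArg Units.val (d.D_inj (h1.trans (map_one _).symm))
  simp only [hr', Units.val_mk0, Units.val_one] at this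
  exact (div_eq_one_iff_eq hm).1 this

theorem norm_bijective [Finite F] : Function.Bijective fun x : F => x * d.φ x :=
  Finite.injective_iff_bijective.1 d.norm_injective

/-- the image of `(0,1)` does not lie in the centre -/
theorem fst_ne_zero [Finite F] {q r : F × F} {k : Fˣ} (h : d.R (0, 1) q k r)
    (hq : q ≠ (0, 0)) : q.1 ≠ 0 := by
  intro hq1
  have h2 : (2 : F) = 0 := two_eq_zero'
  obtain ⟨q1, y⟩ := q
  obtain rfl : q1 = 0 := hq1
  obtain ⟨m, hm⟩ := d.norm_bijective.2 y
  simp only at hm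
  have hm0 : m ≠ 0 := fun e => hq (by rw [← hm, e, zero_mul])
  set mu := Units.mk0 m hm0
  have hsq : d.sV mu (0, 1) = (0, y) := by simp [sV, mu, hm]
  have hiz : d.invV (0, 1) = (0, 1) := by simp [invV]
  have hi := h.inv
  rw [hiz] at hi
  have hr : r = (0, y) := by rw [(h.unique hi).2.2]; simp [invV]
  subst hr
  have hs := h.symm
  have hiy : d.invV (0, y) = (0, y) := by simp [invV]
  rw [hiy] at hs
  have hsc := h.scale mu
  rw [hsq] at hsc
  obtain ⟨-, hk, -⟩ := hs.unique hsc
  have hkm : k = mu := by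
    have e1 : k * k = mu * mu := by
      have e2 := congrArg (fun x => k * x * mu * mu) hk
      simp only [mul_inv_cancel, one_mul] at e2
      rw [e2]
      group
    have e3 : (k : F) * k = (mu : F) * mu := by rw [← Units.val_mul, e1, Units.val_mul]
    have e4 : ((k : F) - mu) * ((k : F) - mu) = 0 := by grind
    exact Units.ext (sub_eq_zero.1 (mul_self_eq_zero.1 e4))
  subst hkm
  have hs2 : d.sV mu⁻¹ (0, y) = (0, 1) := by rw [← hsq, d.sV_sV, inv_mul_cancel, d.sV_one]
  rw [hs2] at hs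
  set z := d.U (0, 1)
  set v := d.D mu⁻¹ * d.w
  have hvv : v * v = 1 := by
    simp only [v, mul_assoc, d.w_D_assoc, d.w_sq, mul_one, inv_inv]
    rw [← map_mul, inv_mul_cancel, map_one]
  have hzz : z * z = 1 := by
    simp only [z, d.U_mul, mulV, zero_mul, add_zero]
    rw [show (1 : F) + 1 = 0 by grind, d.U_zero]
  have hbr : v * z * v = z * v * z := by
    have e1 : z * d.D mu⁻¹ = d.D mu⁻¹ * d.U (0, y) := by rw [d.D_U, hs2]
    calc v * z * v = d.D mu⁻¹ * (d.w * (z * d.D mu⁻¹)) * d.w := by simp only [v, mul_assoc]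
      _ = d.w * d.U (0, y) * d.w := by
        rw [e1, d.w_D_assoc, d.D_D_assoc]
        simp [mul_assoc]
      _ = z * v * z := by rw [show d.w * d.U (0, y) * d.w = _ from hs]; simp only [v, z, mul_assoc]
  have h3 : (v * z) ^ 3 = 1 := by
    calc (v * z) ^ 3 = (v * z * v) * z * (v * z) := by simp only [pow_three, mul_assoc]
      _ = (z * v * z) * z * (v * z) := by rw [hbr]
      _ = z * v * (z * z) * v * z := by group
      _ = z * (v * v) * z := by rw [hzz]; group
      _ = 1 := by rw [hvv, mul_one, hzz]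
  have hva : v = z⁻¹ := eq_inv_of_mul_eq_one_left (d.no_three _ h3)
  have e1 : v • d.a = d.b := by simp only [v, mul_smul, d.w_a, d.D_b]
  rw [hva] at e1
  exact d.hab ((inv_smul_eq_iff.2 (d.U_a (0, 1)).symm).symm.trans e1)

/-- change of the involution exchanging the two points -/
def withW (c : Fˣ) : Data G Ω F :=
  { d with
    w := d.D c * d.w
    w_sq := by rw [mul_assoc, d.w_D_assoc, d.w_sq, mul_one, ← map_mul, mul_inv_cancel, map_one]
    w_a := by rw [mul_smul, d.w_a, d.D_b]
    w_D := fun l => by rw [mul_assoc, d.w_D, ← mul_assoc, ← map_mul, mul_comm c, map_mul, mul_assoc] }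

omit [CharP F 2] in
theorem R.withW {d : Data G Ω F} {p q r : F × F} {k : Fˣ} (h : d.R p q k r) (c : Fˣ) :
    (d.withW c).R (d.sV c p) q (k * c⁻¹) r := by
  show (d.D c * d.w) * d.U (d.sV c p) * (d.D c * d.w) = d.U q * d.D (k * c⁻¹) * (d.D c * d.w) * d.U r
  have e1 : d.U (d.sV c p) * d.D c = d.D c * d.U p := (d.D_U c p).symm
  calc _ = d.D c * d.w * ((d.U (d.sV c p) * d.D c) * d.w) := by simp only [mul_assoc]
    _ = d.w * d.U p * d.w := by
      rw [e1]
      simp only [mul_assoc, d.w_D_assoc, d.D_D_assoc, mul_inv_cancel, map_one, one_mul]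
    _ = _ := by
      rw [show d.w * d.U p * d.w = _ from h]
      simp only [mul_assoc, d.D_D_assoc, inv_mul_cancel, mul_one]

/-- after a change of the involution, the first coordinate of the image of `(0,1)` is `1` -/
theorem exists_withW [Finite F] :
    ∃ (c : Fˣ) (e : F), (d.withW c).R (0, 1) (1, e) 1 (1, e + 1) := by
  have h2 : (2 : F) = 0 := two_eq_zero'
  obtain ⟨q, k, r, h, hq⟩ := d.exists_R (p := (0, 1)) (by simp)
  set c : Fˣ := (Units.mk0 q.1 (d.fst_ne_zero h hq))⁻¹
  have h1 := (h.scale c⁻¹).withW c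
  rw [d.sV_sV, mul_inv_cancel, d.sV_one, inv_inv] at h1
  set d' := d.withW c
  obtain ⟨e, K, R', hR⟩ : ∃ e K R', d'.R (0, 1) (1, e) K R' := by
    refine ⟨(d.sV c q).2, k * c * c * c⁻¹, d.sV c r, ?_⟩
    have : d.sV c q = (1, (d.sV c q).2) := Prod.ext (by
      show (c : F) * q.1 = 1
      simp [c, Units.val_inv_eq_inv_val, inv_mul_cancel₀ (d.fst_ne_zero h hq)]) rfl
    rw [← this]
    exact h1
  refine ⟨c, e, ?_⟩
  have hiz : d'.invV (0, 1) = (0, 1) := by simp [invV]
  have hic : d'.invV (1, e) = (1, e + 1) := by simp [invV]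
  have hi := hR.inv
  rw [hiz, hic] at hi
  obtain ⟨-, -, hr⟩ := hR.unique hi
  subst hr
  have hs := hR.symm
  have hic' : d'.invV (1, e + 1) = (1, e) := by
    simp only [invV, map_one, mul_one, Prod.mk.injEq, true_and]
    grind
  rw [hic'] at hs
  have hm : d'.mulV (1, e + 1) (0, 1) = (1, e) := by
    simp only [mulV, map_zero, mul_zero, add_zero, Prod.mk.injEq, true_and]
    grind
  have hprod := hR.mul hs (q'' := (0, 1)) (k'' := K⁻¹) (r'' := d'.sV K⁻¹ (1, e)) (by rw [hm]; exact hs)
  have hzc : d'.mulV (0, 1) (1, e) = (1, e + 1) := by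
    simp only [mulV, zero_mul, add_zero, zero_add, Prod.mk.injEq, true_and]
    ring
  have hsi := hs.inv
  rw [hic] at hsi
  rw [hzc] at hprod
  have e1 := congrArg Prod.fst (hprod.unique hsi).1
  simp only [mulV, invV, sV, mul_zero, mul_one, add_zero] at e1
  have hK : K = 1 := inv_eq_one.1 (Units.ext e1.symm)
  rwa [hK] at hR

variable {e : F}

/-- the two linear relations between the images of `(1, e+t)` and `(1, e+t+1)` -/
theorem step (hz : d.R (0, 1) (1, e) 1 (1, e + 1)) (l : Fˣ) {q r q' r' : F × F} {K K' : Fˣ}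
    (h : d.R (1, e + l * d.φ l) q K r) (h' : d.R (1, e + l * d.φ l + 1) q' K' r') :
    l * q.1 = 1 + q'.1 ∧ l * d.φ l * q.2 = e + q'.2 + d.φ q'.1 ∧ K = K' ∧ r.1 = q'.1 := by
  have h2 : (2 : F) = 0 := two_eq_zero'
  have hic' : d.invV (1, e + 1) = (1, e) := by
    simp only [invV, map_one, mul_one, Prod.mk.injEq, true_and]
    grind
  have hc : d.R (1, e) (0, 1) 1 (1, e) := by
    have := hz.symm
    rwa [hic', inv_one, d.sV_one] at this
  have hc' := hc.scale l⁻¹
  rw [inv_inv, one_mul] at hc'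
  have hmid : d.mulV (1, e + 1) (d.sV l (0, 1)) = (1, e + l * d.φ l + 1) := by
    simp only [mulV, sV, mul_zero, map_zero, add_zero, mul_one, Prod.mk.injEq, true_and]
    ring
  have hprod := hz.mul hc' (q'' := q') (k'' := K') (r'' := r') (by rw [hmid]; exact h')
  have hsc := h.scale l⁻¹
  rw [inv_inv] at hsc
  have hpp : d.mulV (0, 1) (d.sV l⁻¹ (1, e)) = d.sV l⁻¹ (1, e + l * d.φ l) := by
    have hu : ((l⁻¹ : Fˣ) : F) * l = 1 := Units.inv_mul l
    have hu' : d.φ ((l⁻¹ : Fˣ) : F) * d.φ l = 1 := by rw [← map_mul, hu, map_one]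
    simp only [mulV, sV, zero_mul, add_zero, zero_add, mul_one, Prod.mk.injEq, true_and]
    linear_combination (-(d.φ ((l⁻¹ : Fˣ) : F)) * d.φ l) * hu - hu'
  rw [hpp] at hprod
  obtain ⟨hq, hK, -⟩ := hsc.unique hprod
  have hiu : d.invV (1, e + l * d.φ l + 1) = (1, e + l * d.φ l) := by
    simp only [invV, map_one, mul_one, Prod.mk.injEq, true_and]
    grind
  have hi := h'.inv
  rw [hiu] at hi
  obtain ⟨-, -, hr⟩ := h.unique hi
  simp only [sV, mulV, one_mul, Units.val_one, map_one, Prod.mk.injEq] at hq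
  refine ⟨hq.1, hq.2, ?_, by rw [hr]; rfl⟩
  rw [one_mul] at hK
  exact mul_right_cancel (by rwa [mul_assoc] at hK)

/-- the coordinates `A, B` attached to `l` and `A', B'` attached to `m` -/
structure Rel (e l m A A' B B' : F) : Prop where
  ne : l * m + 1 ≠ 0
  hA : l * A = 1 + A'
  hA' : m * A' = 1 + A
  hB : l * d.φ l * B = e + B' + d.φ A'
  hB' : m * d.φ m * B' = e + B + d.φ A
  hsym : B + B' = e * (A * d.φ A + A' * d.φ A')

variable [Finite F]

/-- one half of the symmetry -/
theorem step_two (hz : d.R (0, 1) (1, e) 1 (1, e + 1)) {t : F} (ht' : t ≠ 1)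
    {q r : F × F} {K : Fˣ} (h : d.R (1, e + t) q K r) (hA : q.1 ≠ 0) :
    ∃ lam : F, lam * d.φ lam = q.2 / (q.1 * d.φ q.1) + e ∧
      (K : F) * (lam * q.1 + 1) = q.1 * r.1 := by
  have h2 : (2 : F) = 0 := two_eq_zero'
  set a : Fˣ := Units.mk0 q.1 hA with ha
  set N := q.1 * d.φ q.1 with hN
  have hN0 : N ≠ 0 := mul_ne_zero hA ((EmbeddingLike.map_ne_zero_iff (f := d.φ)).2 hA)
  set s := q.2 / N + e with hs
  have hq : d.sV a (1, e + s) = q := by
    refine Prod.ext (by simp [sV, ha]) ?_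
    simp only [sV, ha, Units.val_mk0, hs]
    rw [show e + (q.2 / N + e) = q.2 / N by grind, ← hN, mul_comm, div_mul_cancel₀ _ hN0]
  have hback := h.symm
  obtain ⟨lam, hlam⟩ := d.norm_bijective.2 s
  simp only at hlam
  refine ⟨lam, hlam, ?_⟩
  have hic' : d.invV (1, e + 1) = (1, e) := by
    simp only [invV, map_one, mul_one, Prod.mk.injEq, true_and]
    grind
  have hc : d.R (1, e) (0, 1) 1 (1, e) := by
    have := hz.symm
    rwa [hic', inv_one, d.sV_one] at this
  have hs0 : s ≠ 0 := fun h0 => by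
    have hsc := hc.scale a
    rw [h0, add_zero] at hq
    rw [hq] at hsc
    have := congrArg Prod.fst (hback.unique hsc).1
    simp [sV] at this
  have hs1 : s ≠ 1 := fun h1 => by
    have hic : d.invV (1, e) = (1, e + 1) := by simp [invV]
    have hci : d.R (1, e + 1) (1, e + 1) 1 (0, 1) := by
      have := hc.inv
      rwa [hic, show d.invV (0, 1) = (0, 1) by simp [invV]] at this
    have hsc := hci.scale a
    rw [h1] at hq
    rw [hq] at hsc
    obtain ⟨e1, e2⟩ := Prod.ext_iff.1 (hback.unique hsc).1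
    simp only [sV, mul_one] at e1 e2
    rw [← e1, map_one, one_mul, one_mul] at e2
    exact ht' (add_left_cancel e2)
  have hlam0 : lam ≠ 0 := fun h0 => hs0 (by rw [← hlam, h0, zero_mul])
  obtain ⟨qs, ks, rs, hR, -⟩ := d.exists_R (p := (1, e + s)) (by simp)
  obtain ⟨qs', ks', rs', hR', -⟩ := d.exists_R (p := (1, e + s + 1)) (by simp)
  obtain ⟨f1, -, -, f4⟩ := d.step hz (Units.mk0 lam hlam0) (q := qs) (r := rs) (K := ks) (q' := qs')
    (r' := rs') (K' := ks') (by simpa [hlam] using hR) (by simpa [hlam] using hR')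
  have hsc := hR.scale a
  rw [hq] at hsc
  obtain ⟨e1, -, e3⟩ := hback.unique hsc
  have g1 : qs.1 = q.1 := by
    have := congrArg Prod.fst e1
    simp only [sV, ha, Units.val_inv_eq_inv_val, Units.val_mk0] at this
    field_simp at this
    exact this.symm
  have g3 := congrArg Prod.fst e3
  simp only [sV, invV, ha, Units.val_inv_eq_inv_val, Units.val_mk0] at g3
  have g4 : q.1 * r.1 = K * rs.1 := by
    field_simp at g3
    linear_combination g3
  simp only [Units.val_mk0, g1] at f1
  rw [g4, f4]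
  grind

theorem exists_rel (hz : d.R (0, 1) (1, e) 1 (1, e + 1)) {l m : F}
    (hlm : l * d.φ l + m * d.φ m = 1) (hl : l ≠ 0) (hm : m ≠ 0) :
    ∃ A A' B B', d.Rel e l m A A' B B' ∧ ∃ k r, d.R (1, e + l * d.φ l) (A, B) k r := by
  have h2 : (2 : F) = 0 := two_eq_zero'
  have hmt : m * d.φ m = l * d.φ l + 1 := by grind
  obtain ⟨q, K, r, h, -⟩ := d.exists_R (p := (1, e + l * d.φ l)) (by simp)
  obtain ⟨q', K', r', h', -⟩ := d.exists_R (p := (1, e + l * d.φ l + 1)) (by simp)
  have hm' : d.R (1, e + m * d.φ m) q' K' r' := by rw [hmt, ← add_assoc]; exact h'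
  obtain ⟨hA, hB, hKK, hr⟩ := d.step hz (Units.mk0 l hl) (by simpa using h) (by simpa using h')
  obtain ⟨hA', hB', -, hr'⟩ := d.step hz (Units.mk0 m hm) (q := q') (q' := q) (by simpa using hm')
    (by simp only [Units.val_mk0, hmt, ← add_assoc]
        rw [add_assoc (e + l * d.φ l), show (1 : F) + 1 = 0 by grind, add_zero]
        exact h)
  simp only [Units.val_mk0] at hA hB hA' hB'
  have hm1 : m ≠ 1 := fun e1 => hl (d.norm_eq_zero (by
    rw [e1, map_one, mul_one] at hlm
    exact add_eq_right.1 hlm))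
  have hl1 : l ≠ 1 := fun e1 => hm (d.norm_eq_zero (by
    rw [e1, map_one, mul_one] at hlm
    exact add_eq_left.1 hlm))
  have e1 : (l * m + 1) * q.1 = m + 1 := by grind
  have e1' : (l * m + 1) * q'.1 = l + 1 := by grind
  have hne : l * m + 1 ≠ 0 := fun e0 => hm1 (by rw [e0, zero_mul] at e1; grind)
  have hA0 : q.1 ≠ 0 := fun e0 => hm1 (by rw [e0, mul_zero] at e1; grind)
  have hA0' : q'.1 ≠ 0 := fun e0 => hl1 (by rw [e0, mul_zero] at e1'; grind)
  obtain ⟨a, ha, haK⟩ := d.step_two hz (fun e0 => hm (d.norm_eq_zero (by grind))) h hA0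
  obtain ⟨a', ha', haK'⟩ := d.step_two hz (fun e0 => hl (d.norm_eq_zero (by grind))) hm' hA0'
  rw [hr] at haK
  rw [hr', ← hKK] at haK'
  have hsame : a * q.1 = a' * q'.1 := by
    have e2 : (K : F) * (a * q.1 + 1) = K * (a' * q'.1 + 1) := by rw [haK, haK', mul_comm]
    exact add_right_cancel (mul_left_cancel₀ K.ne_zero e2)
  have hN : a * d.φ a * (q.1 * d.φ q.1) = a' * d.φ a' * (q'.1 * d.φ q'.1) := by
    have e2 : d.φ a * d.φ q.1 = d.φ a' * d.φ q'.1 := by rw [← map_mul, hsame, map_mul]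
    linear_combination (d.φ a * d.φ q.1) * hsame + (a' * q'.1) * e2
  rw [ha, ha', add_mul, add_mul, div_mul_cancel₀, div_mul_cancel₀] at hN
  · exact ⟨_, _, _, _, ⟨hne, hA, hA', hB, hB', by grind⟩, K, r, h⟩
  · exact mul_ne_zero hA0' ((EmbeddingLike.map_ne_zero_iff (f := d.φ)).2 hA0')
  · exact mul_ne_zero hA0 ((EmbeddingLike.map_ne_zero_iff (f := d.φ)).2 hA0)

theorem coeff_eq (hz : d.R (0, 1) (1, e) 1 (1, e + 1)) {l m : F}
    (hlm : l * d.φ l + m * d.φ m = 1) :
    e * ((l * d.φ l * d.φ l + m * d.φ m * d.φ m + 1) * (l * m + 1)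
        + (l * d.φ l * l + m * d.φ m * m + 1) * d.φ (l * m + 1))
      = (l * d.φ l * d.φ l + m * d.φ m * d.φ m + 1) * (l * m + 1) := by
  have h2 : (2 : F) = 0 := two_eq_zero'
  have hone : ∀ {x : F}, x * d.φ x = 1 → x = 1 := fun {x} hx =>
    d.norm_injective (show x * d.φ x = 1 * d.φ 1 by rw [hx, map_one, mul_one])
  by_cases hl : l = 0
  · subst hl
    have hm := hone (by simpa using hlm)
    subst hm
    simp only [map_one, map_zero, mul_one, zero_add, mul_zero]
    grind
  by_cases hm : m = 0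
  · subst hm
    have hl := hone (by simpa using hlm)
    subst hl
    simp only [map_one, map_zero, mul_one, zero_add, mul_zero, add_zero]
    grind
  obtain ⟨A, A', B, B', h, -⟩ := d.exists_rel hz hlm hl hm
  exact eq_of_relations hlm h.hA h.hA' h.hB h.hB' h.hsym

theorem lm_ne {l m : F} (hz : d.R (0, 1) (1, e) 1 (1, e + 1))
    (hlm : l * d.φ l + m * d.φ m = 1) : l * m + 1 ≠ 0 := by
  by_cases hl : l = 0
  · simp [hl]
  by_cases hm : m = 0
  · simp [hm]
  obtain ⟨A, A', B, B', h, -⟩ := d.exists_rel hz hlm hl hm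
  exact h.ne

theorem e_eq (hz : d.R (0, 1) (1, e) 1 (1, e + 1)) : e = 0 ∨ e = 1 := by
  have h2 : (2 : F) = 0 := two_eq_zero'
  suffices h : e * e = e from (mul_left_eq_self₀.1 h).symm
  by_contra hne
  have key : ∀ l m : F, l * d.φ l + m * d.φ m = 1 →
      (l * d.φ l * d.φ l + m * d.φ m * d.φ m + 1) * (l * m + 1) = 0 ∧
        (l * d.φ l * l + m * d.φ m * m + 1) * d.φ (l * m + 1) = 0 := by
    intro l m hlm
    have h := d.coeff_eq hz hlm
    have h' := d.coeff_eq hz (l := l * l) (m := m * m) (by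
      simp only [map_mul]
      linear_combination (l * d.φ l + m * d.φ m + 1) * hlm - (l * d.φ l * (m * d.φ m)) * h2)
    refine (sq_eq h ?_).resolve_left hne
    have e1 : l * l * (m * m) + 1 = (l * m + 1) * (l * m + 1) := by grind
    have e3 : l * l * d.φ (l * l) * d.φ (l * l) + m * m * d.φ (m * m) * d.φ (m * m) + 1 =
        (l * d.φ l * d.φ l + m * d.φ m * d.φ m + 1) * (l * d.φ l * d.φ l + m * d.φ m * d.φ m + 1) := by
      simp only [map_mul]; grind
    have e4 : l * l * d.φ (l * l) * (l * l) + m * m * d.φ (m * m) * (m * m) + 1 =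
        (l * d.φ l * l + m * d.φ m * m + 1) * (l * d.φ l * l + m * d.φ m * m + 1) := by
      simp only [map_mul]; grind
    rw [e3, e4, e1, map_mul] at h'
    linear_combination h'
  refine false_of_both d.norm_bijective d.φ_ne (fun l m hlm => ?_) fun l m hlm => ?_
  · have h := (mul_eq_zero.1 (key l m hlm).1).resolve_right (d.lm_ne hz hlm)
    grind
  · have h := (mul_eq_zero.1 (key l m hlm).2).resolve_right
      ((EmbeddingLike.map_ne_zero_iff (f := d.φ)).2 (d.lm_ne hz hlm))
    grind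

/-- if `e = 1` the automorphism is a square root of the Frobenius -/
theorem sq_of_one (hz : d.R (0, 1) (1, 1) 1 (1, 1 + 1)) : ∀ x, d.φ (d.φ x) = x * x := by
  have h2 : (2 : F) = 0 := two_eq_zero'
  refine sq_of_gamma d.norm_bijective d.φ_ne fun l m hlm => ?_
  have h := d.coeff_eq hz hlm
  rw [one_mul] at h
  have h' := (mul_eq_zero.1 (add_eq_left.1 h)).resolve_right
    ((EmbeddingLike.map_ne_zero_iff (f := d.φ)).2 (d.lm_ne hz hlm))
  grind

/-- the other system of coordinates -/
def swap : Data G Ω F :=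
  { d with
    φ := d.φ.symm
    φ_ne := fun h => d.φ_ne (by rw [← d.φ.symm_symm, h]; rfl)
    u := fun x y => d.u x (d.φ y + x * d.φ x)
    u_mul := fun x y x' y' => by
      rw [d.u_mul]
      congr 1
      simp only [map_add, map_mul, RingEquiv.apply_symm_apply]
      grind [two_eq_zero' (F := F)]
    D_u := fun l x y => by
      rw [d.D_u]
      congr 2
      simp only [map_mul, RingEquiv.apply_symm_apply]
      ring
    u_a := fun x y => d.u_a _ _
    free := fun x y h => by
      obtain ⟨h1, h2⟩ := d.free _ _ h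
      rw [h1, zero_mul, add_zero] at h2
      exact ⟨h1, d.φ.injective (h2.trans (map_zero _).symm)⟩
    cover := fun p hp => by
      obtain ⟨x, y, h⟩ := d.cover p hp
      exact ⟨x, d.φ.symm (y + x * d.φ x), by
        rw [RingEquiv.apply_symm_apply, show y + x * d.φ x + x * d.φ x = y by
          grind [two_eq_zero' (F := F)]]
        exact h⟩ }

end Data

/-- normalised coordinates -/
structure Normal (G Ω F : Type*) [Group G] [MulAction G Ω] [Field F] extends Data G Ω F where
  sq : ∀ x, φ (φ x) = x * x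
  hz : toData.R (0, 1) (1, 1) 1 (1, 0)

/-- every system of coordinates can be normalised -/
theorem Data.exists_normal {G Ω F : Type*} [Group G] [MulAction G Ω] [Field F] [CharP F 2] [Finite F]
    (d : Data G Ω F) : Nonempty (Normal G Ω F) := by
  have h2 : (2 : F) = 0 := two_eq_zero'
  have h11 : (1 : F) + 1 = 0 := by grind
  obtain ⟨c, e, hz⟩ := d.exists_withW
  rcases (d.withW c).e_eq hz with rfl | rfl
  · set d₁ := (d.withW c).swap
    have hz' : d₁.R (0, 1) (1, 1) 1 (1, 1 + 1) := by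
      show d₁.w * d₁.u 0 1 * d₁.w = d₁.u 1 1 * d₁.D 1 * d₁.w * d₁.u 1 (1 + 1)
      have h := hz
      rw [zero_add] at h
      simp only [d₁, swap, map_one, mul_one, zero_mul, add_zero, h11, map_zero, zero_add]
      simpa [R, U] using h
    exact ⟨{ d₁ with sq := d₁.sq_of_one hz', hz := by rwa [h11] at hz' }⟩
  · exact ⟨{ d.withW c with sq := (d.withW c).sq_of_one hz, hz := by rwa [h11] at hz }⟩

end CfsgLib.Suzuki.Recognition
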