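import Mathlib
import Cfsg.Agent.Lib.Suzuki.Recognition.Normal

/-!
# Two groups with coordinates over the same field are isomorphic
-/

set_option autoImplicit false

namespace CfsgLib.Suzuki.Recognition

/-- two square roots of the Frobenius of a finite field of characteristic two coincide -/
theorem sqrt_frobenius_unique {F : Type*} [Field F] [CharP F 2] [Finite F] {φ φ' : F ≃+* F}
    (h : ∀ x, φ (φ x) = x * x) (h' : ∀ x, φ' (φ' x) = x * x) : φ = φ' := by
  have := ZMod.algebra F 2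
  cases nonempty_fintype F
  have hexp : ∀ ψ : F ≃+* F, ∃ i, ∀ x, ψ x = x ^ 2 ^ i := fun ψ => by
    obtain ⟨i, hi⟩ := (FiniteField.bijective_frobeniusAlgEquivOfAlgebraic_pow (ZMod 2) F).2
      (AlgEquiv.ofRingEquiv (f := ψ) (fun x => by
        rw [show ψ (algebraMap (ZMod 2) F x) = ψ.toRingHom.comp (algebraMap (ZMod 2) F) x from rfl,
          Subsingleton.elim (ψ.toRingHom.comp (algebraMap (ZMod 2) F)) (algebraMap (ZMod 2) F)]))
    refine ⟨i, fun x => ?_⟩
    have e := DFunLike.congr_fun hi x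
    simp only [AlgEquiv.ofRingEquiv_apply] at e
    rw [← e, AlgEquiv.coe_pow, FiniteField.coe_frobeniusAlgEquivOfAlgebraic_iterate, ZMod.card]
  obtain ⟨i, hi⟩ := hexp φ
  obtain ⟨j, hj⟩ := hexp φ'
  -- the multiplicative order of the Frobenius is the degree of `F`
  obtain ⟨n, hn⟩ : ∃ n, n = Module.finrank (ZMod 2) F := ⟨_, rfl⟩
  have hmod : ∀ a b : ℕ, (∀ x : F, x ^ 2 ^ a = x ^ 2 ^ b) → a ≡ b [MOD n] := by
    intro a b hab
    have hord : orderOf (FiniteField.frobeniusAlgEquivOfAlgebraic (ZMod 2) F) = n := by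
      rw [FiniteField.orderOf_frobeniusAlgEquivOfAlgebraic, hn]
    rw [← hord, ← pow_eq_pow_iff_modEq]
    ext x
    rw [AlgEquiv.coe_pow, AlgEquiv.coe_pow, FiniteField.coe_frobeniusAlgEquivOfAlgebraic_iterate,
      FiniteField.coe_frobeniusAlgEquivOfAlgebraic_iterate, ZMod.card]
    exact hab x
  have hi2 : i + i ≡ 1 [MOD n] := hmod _ _ fun x => by
    rw [pow_add, pow_mul, ← hi, ← hi, h, pow_one, sq]
  have hj2 : j + j ≡ 1 [MOD n] := hmod _ _ fun x => by
    rw [pow_add, pow_mul, ← hj, ← hj, h', pow_one, sq]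
  have hij : i ≡ j [MOD n] := by
    have hc : Nat.Coprime n 2 := by
      obtain ⟨k, hk⟩ := Nat.modEq_iff_dvd.1 hi2
      rw [Nat.coprime_two_right, Nat.odd_iff]
      rcases Nat.mod_two_eq_zero_or_one n with e | e
      · exfalso
        obtain ⟨n', hn'⟩ := Nat.dvd_of_mod_eq_zero e
        rw [hn'] at hk
        push_cast at hk
        have : (1 : ℤ) = 2 * (n' * k + i) := by linear_combination hk
        omega
      · exact e
    exact Nat.ModEq.cancel_left_of_coprime hc (by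
      rw [two_mul, two_mul]; exact hi2.trans hj2.symm)
  refine RingEquiv.ext fun x => ?_
  have e : FiniteField.frobeniusAlgEquivOfAlgebraic (ZMod 2) F ^ i =
      FiniteField.frobeniusAlgEquivOfAlgebraic (ZMod 2) F ^ j := by
    rw [pow_eq_pow_iff_modEq, FiniteField.orderOf_frobeniusAlgEquivOfAlgebraic, ← hn]
    exact hij
  have e' := DFunLike.congr_fun e x
  rw [AlgEquiv.coe_pow, AlgEquiv.coe_pow, FiniteField.coe_frobeniusAlgEquivOfAlgebraic_iterate,
    FiniteField.coe_frobeniusAlgEquivOfAlgebraic_iterate, ZMod.card] at e'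
  rw [hi, hj]
  exact e'

variable {G Ω G' Ω' F : Type*} [Group G] [MulAction G Ω] [Group G'] [MulAction G' Ω']
  [Field F] [CharP F 2] [Finite F]

omit [Finite F] in
theorem Normal.eq_formula (d : Normal G Ω F) {l m A A' B B' : F}
    (h : d.toData.Rel 1 l m A A' B B') (hlm : l * d.φ l + m * d.φ m = 1) :
    A = (m + 1) / (l * m + 1) ∧
      B = l * d.φ l * (A * d.φ A + A' * d.φ A') + d.φ A + d.φ A' ∧
      A' = (l + 1) / (l * m + 1) := by
  obtain ⟨hne, hA, hA', hB, hB', hsym⟩ := h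
  have h2 : (2 : F) = 0 := two_eq_zero'
  have e1 : (l * m + 1) * A = m + 1 := by grind
  have e2 : (l * m + 1) * A' = l + 1 := by grind
  refine ⟨by rw [eq_div_iff hne, ← e1, mul_comm], ?_, by rw [eq_div_iff hne, ← e2, mul_comm]⟩
  generalize A * d.φ A + A' * d.φ A' = P at *
  generalize d.φ A = a at *
  generalize d.φ A' = a' at *
  generalize l * d.φ l = t at *
  generalize m * d.φ m = s at *
  grind

omit [Finite F] in
theorem Data.symm_one {d : Data G Ω F} (h : d.R (0, 1) (1, 1) 1 (1, 1 + 1)) :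
    d.R (1, 1) (0, 1) 1 (1, 1) := by
  have h2 : (2 : F) = 0 := two_eq_zero'
  have := h.symm
  rwa [inv_one, d.sV_one, show d.invV (1, 1 + 1) = (1, 1) by
    simp only [Data.invV, map_one, mul_one, Prod.mk.injEq, true_and]; grind] at this

theorem Normal.image_unique (d : Normal G Ω F) (d' : Normal G' Ω' F) (hφ : d.φ = d'.φ)
    {p q r q' r' : F × F} {k k' : Fˣ} (h : d.R p q k r) (h' : d'.R p q' k' r') : q = q' := by
  have h2 : (2 : F) = 0 := two_eq_zero'
  have hsV : ∀ (l : Fˣ) v, d.sV l v = d'.sV l v := fun l v => by simp [Data.sV, hφ]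
  -- it suffices to treat `(0,1)` and the points with first coordinate one
  have hred : ∀ (a : Fˣ) (p₀ : F × F),
      (∀ q r k q' r' k', d.R p₀ q k r → d'.R p₀ q' k' r' → q = q') → p = d.sV a p₀ → q = q' := by
    intro a p₀ H hp
    have g := h.scale a⁻¹
    have g' := h'.scale a⁻¹
    rw [hp, d.sV_sV, inv_mul_cancel, d.sV_one] at g
    rw [hp, hsV, d'.sV_sV, inv_mul_cancel, d'.sV_one] at g'
    have e := H _ _ _ _ _ _ g g'
    rw [← hsV, inv_inv] at e
    have := congrArg (d.sV a⁻¹) e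
    rwa [d.sV_sV, d.sV_sV, inv_mul_cancel, d.sV_one, d.sV_one] at this
  obtain ⟨p1, p2⟩ := p
  by_cases hp1 : p1 = 0
  · subst hp1
    have hp2 : p2 ≠ 0 := fun e => h.ne_zero (by rw [e])
    obtain ⟨m, hm⟩ := d.toData.norm_bijective.2 p2
    simp only at hm
    refine hred (Units.mk0 m fun e => hp2 (by rw [← hm, e, zero_mul])) (0, 1) ?_
      (by simp [Data.sV, hm])
    intro q r k q' r' k' g g'
    rw [(g.unique d.hz).1, (g'.unique d'.hz).1]
  · have hN : p1 * d.φ p1 ≠ 0 := fun e => hp1 (d.toData.norm_eq_zero e)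
    set t := p2 / (p1 * d.φ p1) + 1
    refine hred (Units.mk0 p1 hp1) (1, 1 + t) ?_ ?_
    swap
    · refine Prod.ext (by simp [Data.sV]) ?_
      simp only [Data.sV, Units.val_mk0, t]
      rw [show 1 + (p2 / (p1 * d.φ p1) + 1) = p2 / (p1 * d.φ p1) by grind, mul_div_cancel₀ _ hN]
    intro q r k q' r' k' g g'
    obtain ⟨l, hl⟩ := d.toData.norm_bijective.2 t
    obtain ⟨m, hm⟩ := d.toData.norm_bijective.2 (t + 1)
    simp only at hl hm
    have hlm : l * d.φ l + m * d.φ m = 1 := by rw [hl, hm]; grind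
    have hz : d.R (0, 1) (1, 1) 1 (1, 1 + 1) := by rw [show (1 : F) + 1 = 0 by grind]; exact d.hz
    have hz' : d'.R (0, 1) (1, 1) 1 (1, 1 + 1) := by rw [show (1 : F) + 1 = 0 by grind]; exact d'.hz
    rcases eq_or_ne l 0 with rfl | hl0
    · rw [zero_mul] at hl
      rw [← hl, add_zero] at g g'
      rw [(g.unique (Data.symm_one hz)).1, (g'.unique (Data.symm_one hz')).1]
    rcases eq_or_ne m 0 with rfl | hm0
    · rw [zero_mul] at hm
      have ht : t = 1 := by grind
      rw [ht] at g g'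
      have hci := (Data.symm_one hz).inv
      have hci' := (Data.symm_one hz').inv
      simp only [Data.invV, map_one, mul_one, zero_mul, add_zero] at hci hci'
      rw [(g.unique hci).1, (g'.unique hci').1]
    obtain ⟨A, A', B, B', hr, kk, rr, hR⟩ := d.toData.exists_rel hz hlm hl0 hm0
    obtain ⟨A₁, A₁', B₁, B₁', hr₁, kk₁, rr₁, hR₁⟩ :=
      d'.toData.exists_rel hz' (by rw [← hφ]; exact hlm) hl0 hm0
    rw [hl] at hR
    rw [← hφ, hl] at hR₁
    rw [(g.unique hR).1, (g'.unique hR₁).1]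
    obtain ⟨eA, eB, eA'⟩ := d.eq_formula hr hlm
    obtain ⟨eA₁, eB₁, eA₁'⟩ := d'.eq_formula hr₁ (by rw [← hφ]; exact hlm)
    rw [eB, eB₁, eA, eA', eA₁, eA₁', hφ]

/-- the set of group elements which have a counterpart under a bijection of the point sets -/
def counterparts (β : Ω ≃ Ω') : Subgroup G where
  carrier := {g | ∃ g' : G', ∀ p, β (g • p) = g' • β p}
  one_mem' := ⟨1, fun p => by simp⟩
  mul_mem' := by
    rintro g h ⟨g', hg⟩ ⟨h', hh⟩
    exact ⟨g' * h', fun p => by rw [mul_smul, hg, hh, mul_smul]⟩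
  inv_mem' := by
    rintro g ⟨g', hg⟩
    exact ⟨g'⁻¹, fun p => by rw [eq_inv_smul_iff, ← hg, smul_inv_smul]⟩

omit [CharP F 2] [Finite F] in
theorem Data.mem_of_gen (d : Data G Ω F) (H : Subgroup G) (hu : ∀ x y, d.u x y ∈ H)
    (hD : ∀ l, d.D l ∈ H) (hw : d.w ∈ H) (g : G) : g ∈ H := by
  have key : ∀ g : G, g • d.a = d.a → g ∈ H := fun g hg => by
    obtain ⟨x, y, hxy⟩ := d.cover (g • d.b) fun e =>
      d.hab (MulAction.injective g (hg.trans e.symm))
    obtain ⟨l, hl⟩ := d.stab ((d.u x y)⁻¹ * g)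
      (by rw [mul_smul, hg]; exact inv_smul_eq_iff.2 (d.u_a x y).symm)
      (by rw [mul_smul, ← hxy, inv_smul_smul])
    rw [show g = d.u x y * d.D l by rw [hl, mul_inv_cancel_left]]
    exact H.mul_mem (hu _ _) (hD _)
  by_cases hg : g • d.a = d.a
  · exact key g hg
  obtain ⟨x, y, hxy⟩ := d.cover (g • d.a) hg
  have hk : (d.w * (d.u x y)⁻¹ * g) • d.a = d.a := by
    rw [mul_smul, mul_smul, ← hxy, inv_smul_smul, d.w_b]
  have e : g = d.u x y * d.w * (d.w * (d.u x y)⁻¹ * g) := by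
    rw [mul_assoc, mul_assoc d.w, d.w_w_assoc, mul_inv_cancel_left]
  rw [e]
  exact H.mul_mem (H.mul_mem (hu _ _) hw) (key _ hk)

omit [Finite F] in
theorem Data.faithful (d : Data G Ω F) (g : G) (h : ∀ p : Ω, g • p = p) : g = 1 :=
  d.three g (d.U (0, 1) • d.b) (h _) (h _) (d.U_b_ne_a _)
    (fun e => by
      have := d.U_inj (e.trans (by rw [d.U_zero, one_smul]) :
        d.U (0, 1) • d.b = d.U (0, 0) • d.b)
      simp at this) (h _)

/-- two groups with normalised coordinates over the same field are isomorphic -/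
theorem Normal.nonempty_mulEquiv (d : Normal G Ω F) (d' : Normal G' Ω' F) :
    Nonempty (G ≃* G') := by
  classical
  have hφ : d.φ = d'.φ := sqrt_frobenius_unique d.sq d'.sq
  have hβ : ∀ p : Ω, ∃ p' : Ω', (p = d.a ∧ p' = d'.a) ∨
      ∃ v, d.U v • d.b = p ∧ d'.U v • d'.b = p' := fun p => by
    by_cases hp : p = d.a
    · exact ⟨d'.a, Or.inl ⟨hp, rfl⟩⟩
    · obtain ⟨x, y, hxy⟩ := d.cover p hp
      exact ⟨_, Or.inr ⟨(x, y), hxy, rfl⟩⟩
  choose f hf using hβ
  have hfa : f d.a = d'.a := by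
    rcases hf d.a with ⟨-, e⟩ | ⟨v, e, -⟩
    · exact e
    · exact absurd e (d.U_b_ne_a v)
  have hfv : ∀ v, f (d.U v • d.b) = d'.U v • d'.b := fun v => by
    rcases hf (d.U v • d.b) with ⟨e, -⟩ | ⟨v', e, e'⟩
    · exact absurd e (d.U_b_ne_a v)
    · rw [← e', d.U_inj e]
  have hbij : Function.Bijective f := by
    constructor
    · intro p p' e
      rcases hf p with ⟨rfl, e1⟩ | ⟨v, rfl, e1⟩ <;> rcases hf p' with ⟨rfl, e2⟩ | ⟨v', rfl, e2⟩
      · rfl
      · exact absurd (e2.trans (e.symm.trans e1)) (d'.U_b_ne_a v')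
      · exact absurd (e1.trans (e.trans e2)) (d'.U_b_ne_a v)
      · rw [d'.U_inj (e1.trans (e.trans e2.symm))]
    · intro p'
      by_cases hp : p' = d'.a
      · exact ⟨d.a, hfa.trans hp.symm⟩
      · obtain ⟨x, y, hxy⟩ := d'.cover p' hp
        exact ⟨_, (hfv (x, y)).trans hxy⟩
  let β := Equiv.ofBijective f hbij
  have hU : ∀ v v', d.mulV v v' = d'.mulV v v' := fun v v' => by simp [Data.mulV, hφ]
  have hS : ∀ l v, d.sV l v = d'.sV l v := fun l v => by simp [Data.sV, hφ]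
  have equ : ∀ x y p, f (d.u x y • p) = d'.u x y • f p := fun x y p => by
    rcases hf p with ⟨rfl, -⟩ | ⟨v, rfl, e⟩
    · rw [show d.u x y • d.a = d.a from d.u_a x y, hfa, d'.u_a]
    · rw [← e, show d.u x y = d.U (x, y) from rfl, show d'.u x y = d'.U (x, y) from rfl, smul_smul,
        d.U_mul, hfv, smul_smul, d'.U_mul, hU]
  have eqD : ∀ l p, f (d.D l • p) = d'.D l • f p := fun l p => by
    rcases hf p with ⟨rfl, -⟩ | ⟨v, rfl, e⟩
    · rw [d.D_a, hfa, d'.D_a]
    · rw [← e, smul_smul, d.D_U, mul_smul, d.D_b, hfv, smul_smul, d'.D_U, mul_smul, d'.D_b, hS]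
  have eqw : ∀ p, f (d.w • p) = d'.w • f p := fun p => by
    rcases hf p with ⟨rfl, -⟩ | ⟨v, rfl, e⟩
    · rw [d.w_a, hfa, d'.w_a, show d.b = d.U (0, 0) • d.b by rw [d.U_zero, one_smul], hfv,
        d'.U_zero, one_smul]
    · by_cases hv : v = (0, 0)
      · subst hv
        rw [← e, d.U_zero, one_smul, d.w_b, hfa, d'.U_zero, one_smul, d'.w_b]
      obtain ⟨q, k, r, h, -⟩ := d.toData.exists_R hv
      obtain ⟨q', k', r', h', -⟩ := d'.toData.exists_R hv
      have e1 : d.w • d.U v • d.b = d.U q • d.b := by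
        have := congrArg (· • d.a) (show d.w * d.U v * d.w = _ from h)
        simpa only [mul_smul, d.w_a, d.U_a, d.D_b] using this
      have e1' : d'.w • d'.U v • d'.b = d'.U q' • d'.b := by
        have := congrArg (· • d'.a) (show d'.w * d'.U v * d'.w = _ from h')
        simpa only [mul_smul, d'.w_a, d'.U_a, d'.D_b] using this
      rw [← e, e1, hfv, e1', d.image_unique d' hφ h h']
  have hgen : ∀ g : G, g ∈ counterparts (G' := G') β :=
    d.toData.mem_of_gen _ (fun x y => ⟨_, equ x y⟩) (fun l => ⟨_, eqD l⟩) ⟨_, eqw⟩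
  choose ψ hψ using hgen
  have hψu : ∀ g g', (∀ p, β (g • p) = g' • β p) → ψ g = g' := fun g g' h => by
    refine inv_mul_eq_one.1 (d'.toData.faithful _ fun p' => ?_)
    obtain ⟨p, rfl⟩ := β.surjective p'
    rw [mul_smul, ← h, hψ, inv_smul_smul]
  let Ψ : G →* G' := MonoidHom.mk' ψ fun g h => hψu _ _ fun p => by
    rw [mul_smul, hψ, hψ, mul_smul]
  refine ⟨MulEquiv.ofBijective Ψ ⟨?_, ?_⟩⟩
  · rw [injective_iff_map_eq_one]
    intro g hg
    refine d.toData.faithful g fun p => β.injective ?_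
    rw [hψ, show ψ g = 1 from hg, one_smul]
  · intro g'
    suffices h : g' ∈ Ψ.range from h
    have hw : ∀ (g : G) (g' : G'), (∀ p, β (g • p) = g' • β p) → g' ∈ Ψ.range :=
      fun g g' h => ⟨g, hψu g g' h⟩
    exact d'.toData.mem_of_gen _ (fun x y => hw _ _ (equ x y)) (fun l => hw _ _ (eqD l))
      (hw _ _ eqw) g'

end CfsgLib.Suzuki.Recognition
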