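import Mathlib
import Cfsg.Agent.Lib.SuzukiGroup.Structure
import Cfsg.Agent.Lib.Suzuki.Recognition.Unique
import Cfsg.Prelude.Def_Sz

/-!
# The Suzuki groups in coordinates, and the recognition theorem in coordinates
-/

set_option autoImplicit false

namespace CfsgLib.Suzuki.Recognition

open CfsgLib.SuzukiGroup
open Cfsg.Lie (Sz)

variable {F : Type*} [Field F] [Fintype F] [CharP F 2] {e : ℕ}

/-- the parameter of the Suzuki group as an automorphism -/
noncomputable def thetaEquiv (P : Params F e) : F ≃+* F :=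
  RingEquiv.ofBijective P.θ (theta_bijective P)

omit [CharP F 2] in
@[simp] theorem thetaEquiv_apply (P : Params F e) (x : F) : thetaEquiv P x = P.θ x := rfl

/-- the torus parameter `ψ(l) l` -/
noncomputable def chi (P : Params F e) : Fˣ →* Fˣ :=
  Units.map ((thetaEquiv P).symm.toRingHom : F →* F) * MonoidHom.id Fˣ

omit [CharP F 2] in
theorem theta_symm (P : Params F e) (x : F) : P.θ ((thetaEquiv P).symm x) = x :=
  (thetaEquiv P).apply_symm_apply x

omit [CharP F 2] in
theorem chi_val (P : Params F e) (l : Fˣ) : (chi P l : F) = (thetaEquiv P).symm l * l := rfl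

theorem theta_chi (P : Params F e) (l : Fˣ) : P.θ (chi P l : F) = l * P.θ l := by
  rw [chi_val, map_mul, theta_symm]

theorem chi_sq (P : Params F e) (l : Fˣ) : (chi P l : F) * chi P l / P.θ (chi P l : F) = l := by
  have h : (thetaEquiv P).symm (l : F) * (thetaEquiv P).symm (l : F) = P.θ l := by
    rw [← sq, ← P.sq, theta_symm]
  rw [div_eq_iff (by rw [map_ne_zero]; exact (chi P l).ne_zero), theta_chi, chi_val, ← h]
  ring

omit [Fintype F] [CharP F 2] in
theorem norm_eq_one (P : Params F e) {l : F} (h : l * P.θ l = 1) : l = 1 := by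
  have h' := congrArg P.θ h
  rw [map_mul, P.sq, map_one] at h'
  have hl : l ≠ 0 := fun e0 => by rw [e0, zero_mul] at h; exact zero_ne_one h
  calc l = l * 1 := (mul_one l).symm
    _ = l * (P.θ l * l ^ 2) := by rw [h']
    _ = l ^ 2 := by rw [← mul_assoc, h, one_mul]
    _ = 1 := by
      have : P.θ l * l ^ 2 = (l * P.θ l) * l := by ring
      rw [h, one_mul, h'] at this
      rw [← this, one_pow]

theorem chi_injective (P : Params F e) : Function.Injective (chi P) := by
  rw [injective_iff_map_eq_one]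
  intro l hl
  refine Units.ext (norm_eq_one P ?_)
  rw [← theta_chi, hl, Units.val_one, map_one]

theorem chi_surjective (P : Params F e) : Function.Surjective (chi P) :=
  Finite.injective_iff_surjective.1 (chi_injective P)

theorem not_three_dvd_card {m : ℕ} (hF : Fintype.card F = 2 ^ (2 * m + 1)) (P : Params F e) :
    ¬ 3 ∣ Nat.card ↥(Sz F e) := by
  rw [card_sz P, hF]
  have h : 2 ^ (2 * m + 1) % 3 = 2 := by
    rw [pow_succ, pow_mul, Nat.mul_mod, Nat.pow_mod]
    norm_num
  intro hd
  generalize 2 ^ (2 * m + 1) = q at *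
  obtain ⟨k, rfl⟩ : ∃ k, q = 3 * k + 2 := ⟨q / 3, by omega⟩
  rw [Nat.dvd_iff_mod_eq_zero, show 3 * k + 2 - 1 = 3 * k + 1 by omega] at hd
  simp [Nat.pow_mod, Nat.mul_mod, Nat.add_mod] at hd

/-- coordinates of a Suzuki group -/
noncomputable def szData {m : ℕ} (hm : 1 ≤ m) (hF : Fintype.card F = 2 ^ (2 * m + 1)) (P : Params F e) :
    Data ↥(Sz F e) (↥(Sz F e) ⧸ borel (F := F) (e := e)) F where
  φ := thetaEquiv P
  φ_ne h := by
    classical
    have hsub : (Finset.univ : Finset F) ⊆ {0, 1} := fun x _ => by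
      have h1 : P.θ x = x := DFunLike.congr_fun h x
      rcases theta_fix P h1 with rfl | rfl <;> simp
    have h2 := (Finset.card_le_card hsub).trans Finset.card_le_two
    rw [Finset.card_univ, hF] at h2
    have : 2 ^ 3 ≤ 2 ^ (2 * m + 1) := Nat.pow_le_pow_right (by norm_num) (by omega)
    omega
  a := QuotientGroup.mk 1
  b := QuotientGroup.mk (jEl P)
  hab h := jEl_notMem_borel P (by simpa using QuotientGroup.eq.1 h)
  u := uEl P
  u_mul := uEl_mul P
  D := (dHom P).comp (chi P)
  D_inj := fun x y h => chi_injective P (dEl_inj P h)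
  D_u l x y := by
    show dEl P (chi P l) * uEl P x y = _ * dEl P (chi P l)
    rw [dEl_mul_uEl, chi_sq, theta_chi, thetaEquiv_apply]
  u_a x y := by
    rw [MulAction.Quotient.smul_mk, smul_eq_mul, QuotientGroup.eq, mul_one, mul_one, inv_mem_iff]
    exact uEl_mem_borel P x y
  D_a l := by
    rw [MulAction.Quotient.smul_mk, smul_eq_mul, QuotientGroup.eq, mul_one, mul_one, inv_mem_iff]
    exact dEl_mem_borel P _
  D_b l := by
    rw [MulAction.Quotient.smul_mk, smul_eq_mul, QuotientGroup.eq, mul_inv_rev, mul_assoc]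
    show (jEl P)⁻¹ * ((dEl P (chi P l))⁻¹ * jEl P) ∈ _
    rw [dEl_inv, jEl_inv, ← mul_assoc, jEl_mul_dEl, inv_inv, mul_assoc, jEl_mul_self, mul_one]
    exact dEl_mem_borel P _
  free x y h := by
    rw [MulAction.Quotient.smul_mk, smul_eq_mul] at h
    exact rep_inj P (a' := 0) (b' := 0) (by rw [h, uEl_zero, one_mul])
  cover p hp := by
    obtain ⟨x, y, rfl⟩ := exists_rep P p hp
    exact ⟨x, y, rfl⟩
  stab g ha hb := by
    rw [MulAction.Quotient.smul_mk, smul_eq_mul, QuotientGroup.eq, mul_one, mul_one, inv_mem_iff] at ha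
    obtain ⟨x, y, c, rfl⟩ := borel_form P ha
    rw [MulAction.Quotient.smul_mk, smul_eq_mul, mul_assoc] at hb
    have h1 : (QuotientGroup.mk (uEl P x y * jEl P) : ↥(Sz F e) ⧸ borel (F := F) (e := e)) =
        QuotientGroup.mk (uEl P 0 0 * jEl P) := by
      rw [uEl_zero, one_mul]
      refine Eq.trans ?_ hb
      rw [QuotientGroup.eq]
      have e1 : (uEl P x y * jEl P)⁻¹ * (uEl P x y * (dEl P c * jEl P)) = dEl P c⁻¹ := by
        rw [show dEl P c * jEl P = jEl P * dEl P c⁻¹ by rw [jEl_mul_dEl, inv_inv]]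
        group
      rw [e1]
      exact dEl_mem_borel P _
    obtain ⟨rfl, rfl⟩ := rep_inj P h1
    obtain ⟨l, rfl⟩ := chi_surjective P c
    exact ⟨l, by rw [uEl_zero, one_mul]; rfl⟩
  three g p ha hb hpa hpb hp := by
    rw [MulAction.Quotient.smul_mk, smul_eq_mul, QuotientGroup.eq, mul_one, mul_one, inv_mem_iff] at ha
    obtain ⟨x, y, c, rfl⟩ := borel_form P ha
    rw [MulAction.Quotient.smul_mk, smul_eq_mul, mul_assoc] at hb
    have e0 : ∀ x' y', (QuotientGroup.mk (uEl P x y * dEl P c * (uEl P x' y' * jEl P)) :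
        ↥(Sz F e) ⧸ borel (F := F) (e := e)) = QuotientGroup.mk (uEl P (x + (c : F) * c / P.θ c * x')
          (y + P.θ c * y' + x * P.θ ((c : F) * c / P.θ c * x')) * jEl P) := fun x' y' => by
      rw [QuotientGroup.eq, mul_assoc (uEl P x y), ← mul_assoc (dEl P c), dEl_mul_uEl,
        mul_assoc _ (dEl P c), show dEl P c * jEl P = jEl P * dEl P c⁻¹ by rw [jEl_mul_dEl, inv_inv],
        ← mul_assoc, ← mul_assoc, uEl_mul, mul_inv_rev, inv_mul_cancel_right, mul_inv_rev, inv_mul_cancel_right, dEl_inv,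
        inv_inv]
      exact dEl_mem_borel P _
    obtain ⟨rfl, rfl⟩ : x = 0 ∧ y = 0 := by
      have h1 := e0 0 0
      simp only [uEl_zero, one_mul, mul_zero, add_zero, map_zero] at h1
      rw [mul_assoc, hb] at h1
      exact rep_inj P (a' := 0) (b' := 0) (by rw [uEl_zero, one_mul, h1])
    obtain ⟨x', y', rfl⟩ := exists_rep P p hpa
    rw [MulAction.Quotient.smul_mk, smul_eq_mul, e0] at hp
    obtain ⟨e1, e2⟩ := rep_inj P hp
    simp only [zero_add, zero_mul, add_zero] at e1 e2
    obtain ⟨l, rfl⟩ := chi_surjective P c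
    rw [chi_sq] at e1
    rw [theta_chi] at e2
    have hl : (l : F) = 1 := by
      by_cases hx : x' = 0
      · subst hx
        have hy : y' ≠ 0 := fun h => hpb (by rw [h, uEl_zero, one_mul])
        exact norm_eq_one P (mul_eq_right₀ hy |>.1 e2)
      · exact (mul_eq_right₀ hx).1 e1
    rw [Units.val_eq_one.1 hl, map_one, dEl_one, uEl_zero, mul_one]
  w := jEl P
  w_sq := jEl_mul_self P
  w_a := by rw [MulAction.Quotient.smul_mk, smul_eq_mul, mul_one]
  w_D l := by
    show jEl P * dEl P (chi P l) = dEl P (chi P l⁻¹) * jEl P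
    rw [jEl_mul_dEl, map_inv]
  no_three g hg := by
    by_contra h1
    have h3 : orderOf g = 3 := orderOf_eq_prime hg h1
    exact not_three_dvd_card hF P (h3 ▸ orderOf_dvd_natCard g)

omit [Fintype F] in
/-- the degree of a field with a square root of the Frobenius is odd -/
theorem exists_odd_degree [Finite F] {φ : F ≃+* F} (hφ : φ ≠ RingEquiv.refl F)
    (h : ∀ x, φ (φ x) = x * x) : ∃ m, 1 ≤ m ∧ Nat.card F = 2 ^ (2 * m + 1) := by
  cases nonempty_fintype F
  obtain ⟨n, -, hn⟩ := FiniteField.card F 2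
  rw [← Nat.card_eq_fintype_card] at hn
  obtain ⟨k, hk | hk⟩ := Nat.even_or_odd' (n : ℕ)
  · exfalso
    have h3 : 3 ∣ Nat.card Fˣ := by
      rw [Nat.card_units, hn, hk, pow_mul]
      have := Nat.pow_mod 4 k 3
      norm_num at this ⊢
      omega
    have : Fact (Nat.Prime 3) := ⟨Nat.prime_three⟩
    obtain ⟨x, hx⟩ := exists_prime_orderOf_dvd_card' 3 h3
    have hx3 : (x : F) ^ 3 = 1 := by rw [← Units.val_pow_eq_pow_val, ← hx, pow_orderOf_eq_one, Units.val_one]
    have hx1 : (x : F) ≠ 1 := fun e1 => by rw [Units.val_eq_one.1 e1, orderOf_one] at hx; omega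
    have hy : φ x ^ 3 = 1 := by rw [← map_pow, hx3, map_one]
    have key : ∀ y : F, y ^ 3 = 1 → y ≠ 1 → y = x ∨ y = x * x := fun y hy hy1 => by
      have f1 : (x : F) * x + x + 1 = 0 := by
        have e2 : ((x : F) - 1) * (x * x + x + 1) = 0 := by linear_combination hx3
        exact (mul_eq_zero.1 e2).resolve_left (sub_ne_zero.2 hx1)
      have f2 : y * y + y + 1 = 0 := by
        have e2 : (y - 1) * (y * y + y + 1) = 0 := by linear_combination hy
        exact (mul_eq_zero.1 e2).resolve_left (sub_ne_zero.2 hy1)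
      have e3 : (y - x) * (y - x * x) = 0 := by linear_combination f2 - y * f1 + hx3
      rcases mul_eq_zero.1 e3 with e3 | e3
      · exact Or.inl (sub_eq_zero.1 e3)
      · exact Or.inr (sub_eq_zero.1 e3)
    have hne : φ x ≠ 1 := fun e1 => hx1 (φ.injective (e1.trans (map_one φ).symm))
    have hxx : (x : F) ≠ x * x := fun e1 => hx1 (mul_left_cancel₀ x.ne_zero (e1.symm.trans (mul_one _).symm))
    rcases key _ hy hne with e1 | e1
    · exact hxx (by rw [← h, e1, e1])
    · have e2 := h (x : F)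
      rw [e1, map_mul, e1] at e2
      exact hxx (by linear_combination e2 - (x : F) * hx3)
  · refine ⟨k, Nat.one_le_iff_ne_zero.2 fun e0 => hφ (RingEquiv.ext fun x => ?_), by rw [hn, hk]⟩
    have hc : Fintype.card F = 2 := by rw [← Nat.card_eq_fintype_card, hn, hk, e0]; rfl
    have hx : x = 0 ∨ x = 1 := by
      by_contra! hx
      classical
      have := Finset.card_le_univ ({0, 1, x} : Finset F)
      rw [Finset.card_insert_of_notMem (by simp [Ne.symm hx.1]), Finset.card_pair (Ne.symm hx.2), hc] at this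
      omega
    rcases hx with rfl | rfl <;> simp

/-- a group with coordinates is a Suzuki group -/
theorem Data.isoSuzuki {G Ω : Type*} [Group G] [MulAction G Ω] {K : Type} [Field K] [CharP K 2]
    [Finite K] (d : Data G Ω K) : Cfsg.Lie.IsoSuzuki G := by
  cases nonempty_fintype K
  obtain ⟨d⟩ := d.exists_normal
  obtain ⟨m, hm, hK⟩ := exists_odd_degree d.φ_ne d.sq
  rw [Nat.card_eq_fintype_card] at hK
  obtain ⟨-, ⟨P⟩⟩ := exists_params hK
  obtain ⟨d'⟩ := (szData hm hK P).exists_normal
  exact ⟨K, inferInstance, inferInstance, m, hm, hK, d.nonempty_mulEquiv d'⟩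

end CfsgLib.Suzuki.Recognition
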